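import Cfsg.Agent.KM.Tor.K6_m3
import Cfsg.Agent.Prune
set_option linter.all false
prune_inst 0x7fffffffffffffffffff7ffffffffffffffffffffffffffbffefffffffffffffffffffbffffffdfffff7fffffffbfbdffbffffffeffffd7fffffffff7ffffffffffffffffbffffffffffffffffffffffffffffffffffffffffffffffffffffffffffffffffff
open scoped Cfsg.Agent.FastGrp
private noncomputable def lq26c37e5939 {T : Sort _} (f :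
    type_of% (@_root_.List.cons.{0}) →
    type_of% (@_root_.List.nil.{0}) →
    type_of% (@_root_.List.cons.{0} (Prod (List Int) (List Int))) →
    type_of% (@_root_.Prod.mk.{0, 0}) → T) : T :=
  f (@_root_.List.cons.{0}) (@_root_.List.nil.{0}) (@_root_.List.cons.{0} (Prod (List Int) (List Int))) (@_root_.Prod.mk.{0, 0})

/-!
# KM, `l = 3`: the finite checks for `boxLC` (helper14)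

A root is a pair of lists (root, coroot); `K` are the nodes of a Levi subsystem, `J` the other nodes.
-/

set_option autoImplicit false
set_option maxRecDepth 100000
set_option synthInstance.maxSize 4096

namespace Cfsg.Agent.KM.Tor.Lc

open Cfsg Cfsg.Lie Matrix Cfsg.Agent.Nodes.RGDChev Cfsg.Agent.ChevalleyStructure.CoxeterGeomTypes

/-- root and coroot -/
abbrev En := List ℤ × List ℤ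

variable {n : ℕ}

/-- the coefficients -/
def u (e : En) (j : Fin n) : ℤ := e.1.getD j 0

/-- the values on the simple roots -/
def v (e : En) (j : Fin n) : ℤ := e.2.getD j 0

/-- the pairing -/
def B (e f : En) : ℤ := (List.zipWith (· * ·) e.1 f.2).sum

/-- the entry of a vector -/
def ent (C : ChevalleyDatum) (n : ℕ) (a : Fin n → ℤ) : En := (List.ofFn a, List.ofFn (co C n a))

variable {C : ChevalleyDatum}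

theorem u_ent (a : Fin n → ℤ) (j : Fin n) : u (ent C n a) j = a j := by simp [u, ent]

theorem v_ent (a : Fin n → ℤ) (j : Fin n) : v (ent C n a) j = co C n a j := by simp [v, ent]

theorem B_ent (a b : Fin n → ℤ) : B (ent C n a) (ent C n b) = a ⬝ᵥ co C n b := by
  rw [dotProduct, ← List.sum_ofFn]
  exact congrArg List.sum (List.ext_getElem (by simp [ent]) fun i _ _ => by simp [ent])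

variable (K J : List (Fin n))

/-- in the Levi subsystem -/
def Z (e : En) : Prop := ∀ j ∈ J, u e j = 0

/-- orthogonal to the Levi subsystem -/
def Fx (e : En) : Prop := ∀ j ∈ K, v e j = 0

/-- the same class -/
def Sm (e f : En) : Prop := ∀ j ∈ J, u e j = u f j

/-- the class of `± (f - k g)` -/
def Pm (e f : En) (k : ℤ) (g : En) : Prop := (∀ j ∈ J, u e j = u f j - k * u g j) ∨ ∀ j ∈ J, -u e j = u f j - k * u g j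

/-- dominant -/
def D1 (a : En) : Prop := ∀ j ∈ K, 0 ≤ v a j

/-- dominant on the second level -/
def D2 (a b : En) : Prop := ∀ j ∈ K, v a j = 0 → 0 ≤ v b j

/-- dominant on the third level -/
def D3 (a b c : En) : Prop := ∀ j ∈ K, v a j = 0 → v b j = 0 → 0 ≤ v c j

/-- dominant on the fourth level -/
def D4 (a b c d : En) : Prop := ∀ j ∈ K, v a j = 0 → v b j = 0 → v c j = 0 → 0 ≤ v d j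

variable (R : List En)

/-- two trios have a common orthogonal root -/
def T2 : Prop := ∀ c ∈ R, ¬ Z J c → D1 K c → ∀ c' ∈ R, Sm J c' c → D2 K c c' → B c c' = 0 → ∀ d ∈ R, ¬ Z J d → D3 K c c' d →
  ∀ d' ∈ R, Sm J d' d → D4 K c c' d d' → B d d' = 0 → ∃ a ∈ R, Z J a ∧ B a c = 0 ∧ B a c' = 0 ∧ B a d = 0 ∧ B a d' = 0

/-- no `2 A₂` in `D₅` -/
def T3 : Prop := ∀ a ∈ R, Z J a → D1 K a → ∀ a' ∈ R, Z J a' → D2 K a a' → B a a' = -1 → ∀ c ∈ R, ¬ Z J c → B a c = 0 →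
  B a' c = 0 → Fx K c ∨ ∀ b ∈ R, Z J b → B b a = 0 → B b a' = 0 → B b c = 0 → ∀ b' ∈ R, Z J b' → B b b' = -1 → B b' a = 0 →
    B b' a' = 0 → B b' c ≠ 0

/-- connected -/
def T4 : Prop := ∀ a ∈ R, Z J a → D1 K a → ∀ a' ∈ R, Z J a' → ∃ b ∈ R, Z J b ∧ B a b ≠ 0 ∧ B a' b ≠ 0

/-- three classes -/
def T6 : Prop := ∀ c ∈ R, ¬ Z J c → D1 K c → ∀ c' ∈ R, Sm J c' c → D2 K c c' → B c c' = 0 → ∀ c'' ∈ R, Sm J c'' c →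
  B c c'' = 0 → B c' c'' = 0 → ∀ d ∈ R, ¬ Z J d → D3 K c c' d → Pm J d c 0 c ∨ Fx K d ∨ ∃ x ∈ [c, c', c''], ∀ y ∈ R,
    ¬ Z J y → ¬ Fx K y → Pm J y c 0 c ∨ Pm J y d 0 c ∨ Pm J y d (B d x) c

/-- the checks for one Levi subsystem -/
def Core : Prop := (∀ i, i ∈ K ↔ i ∉ J) ∧ T2 K J R ∧ T3 K J R ∧ T4 K J R ∧ T6 K J R

/-! ### the programs -/

/-- bounded implication -/
def al (p q : En → Bool) : Bool := R.all fun e => !p e || q e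

theorem al_iff (p q : En → Bool) : al R p q = true ↔ ∀ e ∈ R, p e = true → q e = true := by
  simp only [al, List.all_eq_true, Bool.or_eq_true, Bool.not_eq_true', ← Bool.not_eq_true, ← imp_iff_not_or]

/-- the class -/
def cl (e : En) : List ℤ := J.map (u e)

/-- `Z` -/
def z (e : En) : Bool := J.all fun j => u e j == 0

/-- `Fx` -/
def fx (e : En) : Bool := K.all fun j => v e j == 0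

/-- `Sm` -/
def sm (e f : En) : Bool := cl J e == cl J f

/-- `Pm` -/
def pm (e f : En) (k : ℤ) (g : En) : Bool :=
  cl J e == (J.map fun j => u f j - k * u g j) || (J.map fun j => -u e j) == J.map fun j => u f j - k * u g j

/-- `D1` -/
def d1 (a : En) : Bool := K.all fun j => 0 ≤ v a j

/-- `D2` -/
def d2 (a b : En) : Bool := K.all fun j => v a j != 0 || 0 ≤ v b j

/-- `D3` -/
def d3 (a b c : En) : Bool := K.all fun j => v a j != 0 || (v b j != 0 || 0 ≤ v c j)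

/-- `D4` -/
def d4 (a b c d : En) : Bool := K.all fun j => v a j != 0 || (v b j != 0 || (v c j != 0 || 0 ≤ v d j))

theorem z_iff (e : En) : z J e = true ↔ Z J e := by simp only [z, Z, _root_.List.all_eq_true, _root_.beq_iff_eq]
theorem nz_iff (e : En) : (!z J e) = true ↔ ¬ Z J e := by rw [← z_iff]; simp
theorem fx_iff (e : En) : fx K e = true ↔ Fx K e := by simp only [fx, Fx, _root_.List.all_eq_true, _root_.beq_iff_eq]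
theorem nfx_iff (e : En) : (!fx K e) = true ↔ ¬ Fx K e := by rw [← fx_iff]; simp
theorem sm_iff (e f : En) : sm J e f = true ↔ Sm J e f := by simp only [sm, Sm, cl, _root_.beq_iff_eq, _root_.List.map_inj_left]
theorem pm_iff (e f : En) (k : ℤ) (g : En) : pm J e f k g = true ↔ Pm J e f k g := by simp only [pm, Pm, cl, _root_.Bool.or_eq_true, _root_.beq_iff_eq, _root_.List.map_inj_left]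
theorem d1_iff (a : En) : d1 K a = true ↔ D1 K a := by simp only [d1, D1, _root_.List.all_eq_true, _root_.decide_eq_true_eq]
theorem d2_iff (a b : En) : d2 K a b = true ↔ D2 K a b := by simp only [d2, D2, imp_iff_not_or, _root_.List.all_eq_true, _root_.Bool.or_eq_true, _root_.bne_iff_ne, _root_.ne_eq, _root_.decide_eq_true_eq]
theorem d3_iff (a b c : En) : d3 K a b c = true ↔ D3 K a b c := by simp only [d3, D3, imp_iff_not_or, _root_.List.all_eq_true, _root_.Bool.or_eq_true, _root_.bne_iff_ne, _root_.ne_eq, _root_.decide_eq_true_eq]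
theorem d4_iff (a b c d : En) : d4 K a b c d = true ↔ D4 K a b c d := by simp only [d4, D4, imp_iff_not_or, _root_.List.all_eq_true, _root_.Bool.or_eq_true, _root_.bne_iff_ne, _root_.ne_eq, _root_.decide_eq_true_eq]

/-- a number for the class -/
private def cd (e : En) : ℕ := (cl J e).foldr (fun x a => a * 16 + (x + 8).toNat) 0

/-- bounded implication inside the class of `d` -/
private noncomputable def alS (d : En) (p q : En → Bool) : Bool :=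
  Nat.rec (motive := fun _ => Bool) (al (R.filter fun e => Nat.beq (cd J e) 0) (fun e => sm J e d && p e) q)
    (fun k _ => al (R.filter fun e => Nat.beq (cd J e) (Nat.succ k)) (fun e => sm J e d && p e) q) (cd J d)

private theorem alS_iff (d : En) (p q : En → Bool) :
    alS J R d p q = true ↔ ∀ e ∈ R, sm J e d = true → p e = true → q e = true := by
  have h : alS J R d p q = al (R.filter fun e => Nat.beq (cd J e) (cd J d)) (fun e => sm J e d && p e) q := by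
    delta alS
    cases cd J d <;> rfl
  rw [h, al_iff]
  simp only [List.mem_filter, Bool.and_eq_true, Nat.beq_eq, and_imp]
  refine ⟨fun H e he h1 => H e he ?_ h1, fun H e he _ => H e he⟩
  exact congrArg (List.foldr _ 0) (beq_iff_eq.1 h1)

/-- `Pm` for a class -/
private def pk (x : List ℤ) (f : En) (k : ℤ) (g : En) : Bool :=
  x == (J.map fun j => u f j - k * u g j) || (x.map fun t => -t) == J.map fun j => u f j - k * u g j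

private theorem pk_cl (e f : En) (k : ℤ) (g : En) : pk J (cl J e) f k g = pm J e f k g := by
  simp only [pk, pm, cl, List.map_map]
  rfl

/-- a test for the classes -/
private def alD (L : List En) (P : List ℤ → Bool) : Bool := (L.map (cl J)).dedup.all P

private theorem alD_iff (L : List En) (P : List ℤ → Bool) : alD J L P = true ↔ ∀ y ∈ L, P (cl J y) = true := by
  delta alD
  rw [List.all_eq_true]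
  refine ⟨fun H y hy => H _ (List.mem_dedup.2 (List.mem_map_of_mem hy)), fun H x hx => ?_⟩
  obtain ⟨y, hy, rfl⟩ := List.mem_map.1 (List.mem_dedup.1 hx)
  exact H y hy

/-- `T2`, class by class -/
private noncomputable def t2f : Bool := al R (fun c => !z J c && d1 K c) fun c => alS J R c (fun c' => d2 K c c' && B c c' == 0) fun c' =>
  al R (fun d => !z J d && d3 K c c' d) fun d => alS J R d (fun d' => d4 K c c' d d' && B d d' == 0) fun d' =>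
    (R.filter (z J)).any fun a => B a c == 0 && (B a c' == 0 && (B a d == 0 && B a d' == 0))

/-- `T3` -/
def t3 : Bool := al R (fun a => z J a && d1 K a) fun a => al R (fun a' => z J a' && d2 K a a' && B a a' == -1) fun a' =>
  al R (fun c => !z J c && B a c == 0 && B a' c == 0) fun c => fx K c ||
    al (R.filter (z J)) (fun b => B b a == 0 && B b a' == 0 && B b c == 0) fun b =>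
      al (R.filter (z J)) (fun b' => B b b' == -1 && B b' a == 0 && B b' a' == 0) fun b' => B b' c != 0

/-- `T4` -/
def t4 : Bool := al R (fun a => z J a && d1 K a) fun a => al R (z J) fun a' =>
  (R.filter (z J)).any fun b => B a b != 0 && B a' b != 0

/-- `T6`, class by class -/
private noncomputable def t6f : Bool := al R (fun c => !z J c && d1 K c) fun c => alS J R c (fun c' => d2 K c c' && B c c' == 0) fun c' =>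
  alS J R c (fun c'' => B c c'' == 0 && B c' c'' == 0) fun c'' => al R (fun d => !z J d && d3 K c c' d) fun d =>
    pm J d c 0 c || (fx K d || [c, c', c''].any fun x => alD J (R.filter fun y => !z J y && !fx K y) fun y =>
      pk J y c 0 c || (pk J y d 0 c || pk J y d (B d x) c))

private theorem core_of (h : ∀ i, i ∈ K ↔ i ∉ J) (h2 : t2f K J R = true) (h3 : t3 K J R = true) (h4 : t4 K J R = true)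
    (h6 : t6f K J R = true) : Core K J R := by
  simp only [t2f, t3, t4, t6f, al_iff, alS_iff, alD_iff, pk_cl, Bool.and_eq_true, Bool.or_eq_true, z_iff, nz_iff, fx_iff, nfx_iff, sm_iff, pm_iff, d1_iff,
    d2_iff, d3_iff, d4_iff, beq_iff_eq, bne_iff_ne, List.any_eq_true, List.all_eq_true, List.mem_filter, and_imp,
    and_assoc] at h2 h3 h4 h6
  exact ⟨h, h2, h3, h4, h6⟩

/-- witnesses for the exponent of `P / Q` -/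
def WL : List (List ℤ × ℤ) :=
  (beta% delta% lq26c37e5939 fun a b _ f =>
 (a (f (a 1<|a 0<|a 0<|a 0<|a 0<|a 0<|a 0<|a 0<|b) 2)<|a (f (a 0<|a 1<|a 0<|a 0<|a 0<|a 0<|a 0<|a 0<|b) 2)<|a (f (a 0<|a 0<|a 0<|a 0<|a 0<|a 0<|a 0<|a 1<|b) 2)<|a (f (a 0<|a 0<|a 0<|a 0<|a 0<|a 0<|a 1<|a 0<|b) 2)<|a (f (a 0<|a 0<|a 1<|a 0<|a 0<|a 0<|a 0<|a 0<|b) 2)<|
 a (f (a 0<|a 1<|a 1<|a 0<|a 0<|a 0<|a 0<|a 0<|b) 2)<|a (f (a 0<|a 0<|a 0<|a 0<|a 0<|a 1<|a 0<|a 0<|b) 2)<|a (f (a 0<|a 0<|a 0<|a 0<|a 0<|a 1<|a 0<|a 1<|b) 2)<|a (f (a 0<|a 0<|a 0<|a 0<|a 1<|a 0<|a 0<|a 0<|b) 2)<|a (f (a 0<|a 1<|a 0<|a 0<|a 1<|a 0<|a 0<|a 0<|b) 2)<|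
 a (f (a 0<|a 0<|a 0<|a 1<|a 0<|a 0<|a 0<|a 0<|b) 2)<|a (f (a 1<|a 0<|a 0<|a 1<|a 0<|a 0<|a 0<|a 0<|b) 2)<|a (f (a 1<|a 4<|a 2<|a 3<|a 0<|a 0<|a 0<|a 0<|b) 5)<|a (f (a 0<|a 0<|a 1<|a 0<|a 1<|a 0<|a 0<|a 0<|b) 2)<|a (f (a 0<|a 0<|a 0<|a 0<|a 1<|a 0<|a 1<|a 0<|b) 2)<|
 a (f (a 1<|a 0<|a 2<|a 3<|a 4<|a 0<|a 0<|a 0<|b) 5)<|a (f (a 0<|a 0<|a 0<|a 0<|a 1<|a 2<|a 3<|a 4<|b) 5)<|a (f (a 0<|a 1<|a 0<|a 0<|a 1<|a 0<|a 1<|a 0<|b) 2)<|a (f (a 0<|a 0<|a 0<|a 1<|a 0<|a 1<|a 0<|a 0<|b) 2)<|a (f (a 0<|a 1<|a 0<|a 2<|a 3<|a 4<|a 0<|a 0<|b) 5)<|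
 a (f (a 0<|a 0<|a 1<|a 2<|a 3<|a 4<|a 0<|a 0<|b) 5)<|a (f (a 0<|a 0<|a 0<|a 1<|a 2<|a 3<|a 4<|a 0<|b) 5)<|a (f (a 1<|a 0<|a 0<|a 1<|a 0<|a 1<|a 0<|a 0<|b) 2)<|a (f (a 0<|a 0<|a 1<|a 0<|a 1<|a 0<|a 1<|a 0<|b) 2)<|a (f (a 0<|a 0<|a 0<|a 1<|a 0<|a 1<|a 0<|a 1<|b) 2)<|
 a (f (a 1<|a 0<|a 2<|a 3<|a 4<|a 5<|a 6<|a 0<|b) 7)<|a (f (a 0<|a 1<|a 0<|a 2<|a 3<|a 4<|a 5<|a 6<|b) 7)<|a (f (a 0<|a 0<|a 1<|a 2<|a 3<|a 4<|a 5<|a 6<|b) 7)<|a (f (a 1<|a 0<|a 0<|a 1<|a 0<|a 1<|a 0<|a 1<|b) 2)<|b))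

variable (C n)

/-- the exponent of `P / Q` does not divide three -/
def Wit (S : Finset (Fin n)) : Prop := ∃ x ∈ WL, (∀ i, i ∉ S → x.1.getD i 0 = 0) ∧ (∃ i : Fin n, ¬ x.2 ∣ 3 * x.1.getD i 0) ∧
  ∀ j ∈ S, x.2 ∣ co C n (fun i => x.1.getD i 0) j

/-- a component of type `A₂` -/
def Two (S : Finset (Fin n)) : Prop := ∃ i ∈ S, ∀ b ∈ R, (∀ j, j ∉ S → u b j = 0) → v b i = -1 → ∀ j ∈ S,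
  3 ∣ v b j - cartanOf C n i j

/-- the list of the roots; the lattice fact `L2` -/
def Ok : Prop := SL C n ∧ R = (List.finRange C.nroots).map (fun s : Fin C.nroots => ent C n (_root_.Cfsg.Agent.Nodes.RGDChev.vec C n s)) ∧
  ∀ i : Fin n, ∀ b ∈ R, v b i = -1 → ∃ j, ¬ 3 ∣ v b j - cartanOf C n i j

instance Wit.dec (S : Finset (Fin n)) : Decidable (Wit n C S) := by unfold Wit; infer_instance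
instance Two.dec (S : Finset (Fin n)) : Decidable (Two n C R S) := by unfold Two; infer_instance
instance Ok.dec : Decidable (Ok n C R) := by unfold Ok; infer_instance

section

local notation "m1" => Int.negSucc 0
local notation "m2" => Int.negSucc 1
local notation "m3" => Int.negSucc 2
local notation "m4" => Int.negSucc 3
local notation "m5" => Int.negSucc 4
local notation "m6" => Int.negSucc 5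
local notation "e" => @Prod.mk (List ℤ) (List ℤ)

/-- the roots and coroots of `E6` -/
def R6 : List En :=
  (beta% delta% lq26c37e5939 fun a b c _ =>
 (let d:=(let d:=(let d:=(let d:=(c (e (a 1<|a 1<|a 2<|a 2<|a 1<|a 0<|b) (a 0<|a 0<|a 1<|a 0<|a 0<|a (m1)<|b))<|c (e (a 1<|a 1<|a 2<|a 2<|a 1<|a 1<|b) (a 0<|a 0<|a 1<|a 0<|a (m1)<|a 1<|b))<|
 c (e (a 1<|a 1<|a 2<|a 2<|a 2<|a 1<|b) (a 0<|a 0<|a 1<|a (m1)<|a 1<|a 0<|b))<|c (e (a 1<|a 1<|a 2<|a 3<|a 2<|a 1<|b) (a 0<|a (m1)<|a 0<|a 1<|a 0<|a 0<|b))<|c (e (a 1<|a 2<|a 2<|a 3<|a 2<|a 1<|b) (a 0<|a 1<|a 0<|a 0<|a 0<|a 0<|b))<|b);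
 (c (e (a 1<|a 1<|a 1<|a 1<|a 1<|a 1<|b) (a 1<|a 1<|a 0<|a (m1)<|a 0<|a 1<|b))<|c (e (a 1<|a 1<|a 1<|a 2<|a 1<|a 0<|b) (a 1<|a 0<|a (m1)<|a 1<|a 0<|a (m1)<|b))<|c (e (a 1<|a 1<|a 1<|a 2<|a 1<|a 1<|b) (a 1<|a 0<|a (m1)<|a 1<|a (m1)<|a 1<|b))<|
 c (e (a 1<|a 1<|a 1<|a 2<|a 2<|a 1<|b) (a 1<|a 0<|a (m1)<|a 0<|a 1<|a 0<|b))<|d));
 (let d:=(c (e (a 1<|a 0<|a 1<|a 1<|a 0<|a 0<|b) (a 1<|a (m1)<|a 0<|a 1<|a (m1)<|a 0<|b))<|c (e (a 1<|a 0<|a 1<|a 1<|a 1<|a 0<|b) (a 1<|a (m1)<|a 0<|a 0<|a 1<|a (m1)<|b))<|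
 c (e (a 1<|a 0<|a 1<|a 1<|a 1<|a 1<|b) (a 1<|a (m1)<|a 0<|a 0<|a 0<|a 1<|b))<|c (e (a 1<|a 1<|a 1<|a 1<|a 0<|a 0<|b) (a 1<|a 1<|a 0<|a 0<|a (m1)<|a 0<|b))<|c (e (a 1<|a 1<|a 1<|a 1<|a 1<|a 0<|b) (a 1<|a 1<|a 0<|a (m1)<|a 1<|a (m1)<|b))<|
 d);
 (c (e (a 0<|a 1<|a 1<|a 2<|a 1<|a 1<|b) (a (m1)<|a 0<|a 0<|a 1<|a (m1)<|a 1<|b))<|c (e (a 0<|a 1<|a 1<|a 2<|a 2<|a 1<|b) (a (m1)<|a 0<|a 0<|a 0<|a 1<|a 0<|b))<|c (e (a 1<|a 0<|a 0<|a 0<|a 0<|a 0<|b) (a 2<|a 0<|a (m1)<|a 0<|a 0<|a 0<|b))<|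
 c (e (a 1<|a 0<|a 1<|a 0<|a 0<|a 0<|b) (a 1<|a 0<|a 1<|a (m1)<|a 0<|a 0<|b))<|d)));
 (let d:=(let d:=(c (e (a 0<|a 1<|a 0<|a 1<|a 1<|a 1<|b) (a 0<|a 1<|a (m1)<|a 0<|a 0<|a 1<|b))<|c (e (a 0<|a 1<|a 1<|a 1<|a 0<|a 0<|b) (a (m1)<|a 1<|a 1<|a 0<|a (m1)<|a 0<|b))<|
 c (e (a 0<|a 1<|a 1<|a 1<|a 1<|a 0<|b) (a (m1)<|a 1<|a 1<|a (m1)<|a 1<|a (m1)<|b))<|c (e (a 0<|a 1<|a 1<|a 1<|a 1<|a 1<|b) (a (m1)<|a 1<|a 1<|a (m1)<|a 0<|a 1<|b))<|c (e (a 0<|a 1<|a 1<|a 2<|a 1<|a 0<|b) (a (m1)<|a 0<|a 0<|a 1<|a 0<|a (m1)<|b))<|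
 d);
 (c (e (a 0<|a 0<|a 1<|a 1<|a 1<|a 1<|b) (a (m1)<|a (m1)<|a 1<|a 0<|a 0<|a 1<|b))<|c (e (a 0<|a 1<|a 0<|a 0<|a 0<|a 0<|b) (a 0<|a 2<|a 0<|a (m1)<|a 0<|a 0<|b))<|c (e (a 0<|a 1<|a 0<|a 1<|a 0<|a 0<|b) (a 0<|a 1<|a (m1)<|a 1<|a (m1)<|a 0<|b))<|
 c (e (a 0<|a 1<|a 0<|a 1<|a 1<|a 0<|b) (a 0<|a 1<|a (m1)<|a 0<|a 1<|a (m1)<|b))<|d));
 (let d:=(c (e (a 0<|a 0<|a 0<|a 1<|a 1<|a 0<|b) (a 0<|a (m1)<|a (m1)<|a 1<|a 1<|a (m1)<|b))<|c (e (a 0<|a 0<|a 0<|a 1<|a 1<|a 1<|b) (a 0<|a (m1)<|a (m1)<|a 1<|a 0<|a 1<|b))<|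
 c (e (a 0<|a 0<|a 1<|a 0<|a 0<|a 0<|b) (a (m1)<|a 0<|a 2<|a (m1)<|a 0<|a 0<|b))<|c (e (a 0<|a 0<|a 1<|a 1<|a 0<|a 0<|b) (a (m1)<|a (m1)<|a 1<|a 1<|a (m1)<|a 0<|b))<|c (e (a 0<|a 0<|a 1<|a 1<|a 1<|a 0<|b) (a (m1)<|a (m1)<|a 1<|a 0<|a 1<|a (m1)<|b))<|
 d);
 (c (e (a 0<|a 0<|a 0<|a 0<|a 0<|a 1<|b) (a 0<|a 0<|a 0<|a 0<|a (m1)<|a 2<|b))<|c (e (a 0<|a 0<|a 0<|a 0<|a 1<|a 0<|b) (a 0<|a 0<|a 0<|a (m1)<|a 2<|a (m1)<|b))<|c (e (a 0<|a 0<|a 0<|a 0<|a 1<|a 1<|b) (a 0<|a 0<|a 0<|a (m1)<|a 1<|a 1<|b))<|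
 c (e (a 0<|a 0<|a 0<|a 1<|a 0<|a 0<|b) (a 0<|a (m1)<|a (m1)<|a 2<|a (m1)<|a 0<|b))<|d))));
 (let d:=(let d:=(let d:=(c (e (a 0<|a 0<|a 0<|a (m1)<|a (m1)<|a 0<|b) (a 0<|a 1<|a 1<|a (m1)<|a (m1)<|a 1<|b))<|c (e (a 0<|a 0<|a 0<|a (m1)<|a 0<|a 0<|b) (a 0<|a 1<|a 1<|a (m2)<|a 1<|a 0<|b))<|
 c (e (a 0<|a 0<|a 0<|a 0<|a (m1)<|a (m1)<|b) (a 0<|a 0<|a 0<|a 1<|a (m1)<|a (m1)<|b))<|c (e (a 0<|a 0<|a 0<|a 0<|a (m1)<|a 0<|b) (a 0<|a 0<|a 0<|a 1<|a (m2)<|a 1<|b))<|c (e (a 0<|a 0<|a 0<|a 0<|a 0<|a (m1)<|b) (a 0<|a 0<|a 0<|a 0<|a 1<|a (m2)<|b))<|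
 d);
 (c (e (a 0<|a 0<|a (m1)<|a (m1)<|a (m1)<|a 0<|b) (a 1<|a 1<|a (m1)<|a 0<|a (m1)<|a 1<|b))<|c (e (a 0<|a 0<|a (m1)<|a (m1)<|a 0<|a 0<|b) (a 1<|a 1<|a (m1)<|a (m1)<|a 1<|a 0<|b))<|c (e (a 0<|a 0<|a (m1)<|a 0<|a 0<|a 0<|b) (a 1<|a 0<|a (m2)<|a 1<|a 0<|a 0<|b))<|
 c (e (a 0<|a 0<|a 0<|a (m1)<|a (m1)<|a (m1)<|b) (a 0<|a 1<|a 1<|a (m1)<|a 0<|a (m1)<|b))<|d));
 (let d:=(c (e (a 0<|a (m1)<|a 0<|a (m1)<|a (m1)<|a (m1)<|b) (a 0<|a (m1)<|a 1<|a 0<|a 0<|a (m1)<|b))<|c (e (a 0<|a (m1)<|a 0<|a (m1)<|a (m1)<|a 0<|b) (a 0<|a (m1)<|a 1<|a 0<|a (m1)<|a 1<|b))<|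
 c (e (a 0<|a (m1)<|a 0<|a (m1)<|a 0<|a 0<|b) (a 0<|a (m1)<|a 1<|a (m1)<|a 1<|a 0<|b))<|c (e (a 0<|a (m1)<|a 0<|a 0<|a 0<|a 0<|b) (a 0<|a (m2)<|a 0<|a 1<|a 0<|a 0<|b))<|c (e (a 0<|a 0<|a (m1)<|a (m1)<|a (m1)<|a (m1)<|b) (a 1<|a 1<|a (m1)<|a 0<|a 0<|a (m1)<|b))<|
 d);
 (c (e (a 0<|a (m1)<|a (m1)<|a (m2)<|a (m1)<|a 0<|b) (a 1<|a 0<|a 0<|a (m1)<|a 0<|a 1<|b))<|c (e (a 0<|a (m1)<|a (m1)<|a (m1)<|a (m1)<|a (m1)<|b) (a 1<|a (m1)<|a (m1)<|a 1<|a 0<|a (m1)<|b))<|c (e (a 0<|a (m1)<|a (m1)<|a (m1)<|a (m1)<|a 0<|b) (a 1<|a (m1)<|a (m1)<|a 1<|a (m1)<|a 1<|b))<|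
 c (e (a 0<|a (m1)<|a (m1)<|a (m1)<|a 0<|a 0<|b) (a 1<|a (m1)<|a (m1)<|a 0<|a 1<|a 0<|b))<|d)));
 (let d:=(let d:=(c (e (a (m1)<|a 0<|a (m1)<|a (m1)<|a 0<|a 0<|b) (a (m1)<|a 1<|a 0<|a (m1)<|a 1<|a 0<|b))<|c (e (a (m1)<|a 0<|a (m1)<|a 0<|a 0<|a 0<|b) (a (m1)<|a 0<|a (m1)<|a 1<|a 0<|a 0<|b))<|
 c (e (a (m1)<|a 0<|a 0<|a 0<|a 0<|a 0<|b) (a (m2)<|a 0<|a 1<|a 0<|a 0<|a 0<|b))<|c (e (a 0<|a (m1)<|a (m1)<|a (m2)<|a (m2)<|a (m1)<|b) (a 1<|a 0<|a 0<|a 0<|a (m1)<|a 0<|b))<|c (e (a 0<|a (m1)<|a (m1)<|a (m2)<|a (m1)<|a (m1)<|b) (a 1<|a 0<|a 0<|a (m1)<|a 1<|a (m1)<|b))<|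
 d);
 (c (e (a (m1)<|a (m1)<|a (m1)<|a (m1)<|a (m1)<|a 0<|b) (a (m1)<|a (m1)<|a 0<|a 1<|a (m1)<|a 1<|b))<|c (e (a (m1)<|a (m1)<|a (m1)<|a (m1)<|a 0<|a 0<|b) (a (m1)<|a (m1)<|a 0<|a 0<|a 1<|a 0<|b))<|c (e (a (m1)<|a 0<|a (m1)<|a (m1)<|a (m1)<|a (m1)<|b) (a (m1)<|a 1<|a 0<|a 0<|a 0<|a (m1)<|b))<|
 c (e (a (m1)<|a 0<|a (m1)<|a (m1)<|a (m1)<|a 0<|b) (a (m1)<|a 1<|a 0<|a 0<|a (m1)<|a 1<|b))<|d));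
 (let d:=(c (e (a (m1)<|a (m1)<|a (m2)<|a (m2)<|a (m1)<|a 0<|b) (a 0<|a 0<|a (m1)<|a 0<|a 0<|a 1<|b))<|c (e (a (m1)<|a (m1)<|a (m1)<|a (m2)<|a (m2)<|a (m1)<|b) (a (m1)<|a 0<|a 1<|a 0<|a (m1)<|a 0<|b))<|
 c (e (a (m1)<|a (m1)<|a (m1)<|a (m2)<|a (m1)<|a (m1)<|b) (a (m1)<|a 0<|a 1<|a (m1)<|a 1<|a (m1)<|b))<|c (e (a (m1)<|a (m1)<|a (m1)<|a (m2)<|a (m1)<|a 0<|b) (a (m1)<|a 0<|a 1<|a (m1)<|a 0<|a 1<|b))<|c (e (a (m1)<|a (m1)<|a (m1)<|a (m1)<|a (m1)<|a (m1)<|b) (a (m1)<|a (m1)<|a 0<|a 1<|a 0<|a (m1)<|b))<|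
 d);
 (a (e (a (m1)<|a (m2)<|a (m2)<|a (m3)<|a (m2)<|a (m1)<|b) (a 0<|a (m1)<|a 0<|a 0<|a 0<|a 0<|b))<|a (e (a (m1)<|a (m1)<|a (m2)<|a (m3)<|a (m2)<|a (m1)<|b) (a 0<|a 1<|a 0<|a (m1)<|a 0<|a 0<|b))<|a (e (a (m1)<|a (m1)<|a (m2)<|a (m2)<|a (m2)<|a (m1)<|b) (a 0<|a 0<|a (m1)<|a 1<|a (m1)<|a 0<|b))<|
 a (e (a (m1)<|a (m1)<|a (m2)<|a (m2)<|a (m1)<|a (m1)<|b) (a 0<|a 0<|a (m1)<|a 0<|a 1<|a (m1)<|b))<|d))))))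

/-- the roots and coroots of `E7` -/
def R7 : List En :=
  (beta% delta% lq26c37e5939 fun a b c _ =>
 (let d:=(let d:=(let d:=(let d:=(let d:=(c (e (a 1<|a 2<|a 2<|a 3<|a 3<|a 2<|a 1<|b) (a 0<|a 1<|a 0<|a (m1)<|a 1<|a 0<|a 0<|b))<|c (e (a 1<|a 2<|a 2<|a 4<|a 3<|a 2<|a 1<|b) (a 0<|a 0<|a (m1)<|a 1<|a 0<|a 0<|a 0<|b))<|
 c (e (a 1<|a 2<|a 3<|a 4<|a 3<|a 2<|a 1<|b) (a (m1)<|a 0<|a 1<|a 0<|a 0<|a 0<|a 0<|b))<|c (e (a 2<|a 2<|a 3<|a 4<|a 3<|a 2<|a 1<|b) (a 1<|a 0<|a 0<|a 0<|a 0<|a 0<|a 0<|b))<|b);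
 (c (e (a 1<|a 1<|a 2<|a 3<|a 3<|a 2<|a 1<|b) (a 0<|a (m1)<|a 0<|a 0<|a 1<|a 0<|a 0<|b))<|c (e (a 1<|a 2<|a 2<|a 3<|a 2<|a 1<|a 0<|b) (a 0<|a 1<|a 0<|a 0<|a 0<|a 0<|a (m1)<|b))<|c (e (a 1<|a 2<|a 2<|a 3<|a 2<|a 1<|a 1<|b) (a 0<|a 1<|a 0<|a 0<|a 0<|a (m1)<|a 1<|b))<|
 c (e (a 1<|a 2<|a 2<|a 3<|a 2<|a 2<|a 1<|b) (a 0<|a 1<|a 0<|a 0<|a (m1)<|a 1<|a 0<|b))<|d));
 (let d:=(c (e (a 1<|a 1<|a 2<|a 2<|a 2<|a 2<|a 1<|b) (a 0<|a 0<|a 1<|a (m1)<|a 0<|a 1<|a 0<|b))<|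
 c (e (a 1<|a 1<|a 2<|a 3<|a 2<|a 1<|a 0<|b) (a 0<|a (m1)<|a 0<|a 1<|a 0<|a 0<|a (m1)<|b))<|c (e (a 1<|a 1<|a 2<|a 3<|a 2<|a 1<|a 1<|b) (a 0<|a (m1)<|a 0<|a 1<|a 0<|a (m1)<|a 1<|b))<|c (e (a 1<|a 1<|a 2<|a 3<|a 2<|a 2<|a 1<|b) (a 0<|a (m1)<|a 0<|a 1<|a (m1)<|a 1<|a 0<|b))<|
 d);
 (c (e (a 1<|a 1<|a 2<|a 2<|a 1<|a 1<|a 0<|b) (a 0<|a 0<|a 1<|a 0<|a (m1)<|a 1<|a (m1)<|b))<|c (e (a 1<|a 1<|a 2<|a 2<|a 1<|a 1<|a 1<|b) (a 0<|a 0<|a 1<|a 0<|a (m1)<|a 0<|a 1<|b))<|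
 c (e (a 1<|a 1<|a 2<|a 2<|a 2<|a 1<|a 0<|b) (a 0<|a 0<|a 1<|a (m1)<|a 1<|a 0<|a (m1)<|b))<|c (e (a 1<|a 1<|a 2<|a 2<|a 2<|a 1<|a 1<|b) (a 0<|a 0<|a 1<|a (m1)<|a 1<|a (m1)<|a 1<|b))<|d)));
 (let d:=(let d:=(c (e (a 1<|a 1<|a 1<|a 2<|a 2<|a 1<|a 0<|b) (a 1<|a 0<|a (m1)<|a 0<|a 1<|a 0<|a (m1)<|b))<|c (e (a 1<|a 1<|a 1<|a 2<|a 2<|a 1<|a 1<|b) (a 1<|a 0<|a (m1)<|a 0<|a 1<|a (m1)<|a 1<|b))<|c (e (a 1<|a 1<|a 1<|a 2<|a 2<|a 2<|a 1<|b) (a 1<|a 0<|a (m1)<|a 0<|a 0<|a 1<|a 0<|b))<|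
 c (e (a 1<|a 1<|a 2<|a 2<|a 1<|a 0<|a 0<|b) (a 0<|a 0<|a 1<|a 0<|a 0<|a (m1)<|a 0<|b))<|d);
 (c (e (a 1<|a 1<|a 1<|a 1<|a 1<|a 1<|a 1<|b) (a 1<|a 1<|a 0<|a (m1)<|a 0<|a 0<|a 1<|b))<|
 c (e (a 1<|a 1<|a 1<|a 2<|a 1<|a 0<|a 0<|b) (a 1<|a 0<|a (m1)<|a 1<|a 0<|a (m1)<|a 0<|b))<|c (e (a 1<|a 1<|a 1<|a 2<|a 1<|a 1<|a 0<|b) (a 1<|a 0<|a (m1)<|a 1<|a (m1)<|a 1<|a (m1)<|b))<|c (e (a 1<|a 1<|a 1<|a 2<|a 1<|a 1<|a 1<|b) (a 1<|a 0<|a (m1)<|a 1<|a (m1)<|a 0<|a 1<|b))<|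
 d));
 (let d:=(c (e (a 1<|a 0<|a 1<|a 1<|a 1<|a 1<|a 1<|b) (a 1<|a (m1)<|a 0<|a 0<|a 0<|a 0<|a 1<|b))<|c (e (a 1<|a 1<|a 1<|a 1<|a 0<|a 0<|a 0<|b) (a 1<|a 1<|a 0<|a 0<|a (m1)<|a 0<|a 0<|b))<|
 c (e (a 1<|a 1<|a 1<|a 1<|a 1<|a 0<|a 0<|b) (a 1<|a 1<|a 0<|a (m1)<|a 1<|a (m1)<|a 0<|b))<|c (e (a 1<|a 1<|a 1<|a 1<|a 1<|a 1<|a 0<|b) (a 1<|a 1<|a 0<|a (m1)<|a 0<|a 1<|a (m1)<|b))<|d);
 (c (e (a 1<|a 0<|a 1<|a 0<|a 0<|a 0<|a 0<|b) (a 1<|a 0<|a 1<|a (m1)<|a 0<|a 0<|a 0<|b))<|c (e (a 1<|a 0<|a 1<|a 1<|a 0<|a 0<|a 0<|b) (a 1<|a (m1)<|a 0<|a 1<|a (m1)<|a 0<|a 0<|b))<|c (e (a 1<|a 0<|a 1<|a 1<|a 1<|a 0<|a 0<|b) (a 1<|a (m1)<|a 0<|a 0<|a 1<|a (m1)<|a 0<|b))<|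
 c (e (a 1<|a 0<|a 1<|a 1<|a 1<|a 1<|a 0<|b) (a 1<|a (m1)<|a 0<|a 0<|a 0<|a 1<|a (m1)<|b))<|d))));
 (let d:=(let d:=(let d:=(c (e (a 0<|a 1<|a 1<|a 2<|a 2<|a 1<|a 0<|b) (a (m1)<|a 0<|a 0<|a 0<|a 1<|a 0<|a (m1)<|b))<|
 c (e (a 0<|a 1<|a 1<|a 2<|a 2<|a 1<|a 1<|b) (a (m1)<|a 0<|a 0<|a 0<|a 1<|a (m1)<|a 1<|b))<|c (e (a 0<|a 1<|a 1<|a 2<|a 2<|a 2<|a 1<|b) (a (m1)<|a 0<|a 0<|a 0<|a 0<|a 1<|a 0<|b))<|c (e (a 1<|a 0<|a 0<|a 0<|a 0<|a 0<|a 0<|b) (a 2<|a 0<|a (m1)<|a 0<|a 0<|a 0<|a 0<|b))<|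
 d);
 (c (e (a 0<|a 1<|a 1<|a 1<|a 1<|a 1<|a 1<|b) (a (m1)<|a 1<|a 1<|a (m1)<|a 0<|a 0<|a 1<|b))<|c (e (a 0<|a 1<|a 1<|a 2<|a 1<|a 0<|a 0<|b) (a (m1)<|a 0<|a 0<|a 1<|a 0<|a (m1)<|a 0<|b))<|
 c (e (a 0<|a 1<|a 1<|a 2<|a 1<|a 1<|a 0<|b) (a (m1)<|a 0<|a 0<|a 1<|a (m1)<|a 1<|a (m1)<|b))<|c (e (a 0<|a 1<|a 1<|a 2<|a 1<|a 1<|a 1<|b) (a (m1)<|a 0<|a 0<|a 1<|a (m1)<|a 0<|a 1<|b))<|d));
 (let d:=(c (e (a 0<|a 1<|a 0<|a 1<|a 1<|a 1<|a 1<|b) (a 0<|a 1<|a (m1)<|a 0<|a 0<|a 0<|a 1<|b))<|c (e (a 0<|a 1<|a 1<|a 1<|a 0<|a 0<|a 0<|b) (a (m1)<|a 1<|a 1<|a 0<|a (m1)<|a 0<|a 0<|b))<|c (e (a 0<|a 1<|a 1<|a 1<|a 1<|a 0<|a 0<|b) (a (m1)<|a 1<|a 1<|a (m1)<|a 1<|a (m1)<|a 0<|b))<|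
 c (e (a 0<|a 1<|a 1<|a 1<|a 1<|a 1<|a 0<|b) (a (m1)<|a 1<|a 1<|a (m1)<|a 0<|a 1<|a (m1)<|b))<|d);
 (c (e (a 0<|a 1<|a 0<|a 0<|a 0<|a 0<|a 0<|b) (a 0<|a 2<|a 0<|a (m1)<|a 0<|a 0<|a 0<|b))<|
 c (e (a 0<|a 1<|a 0<|a 1<|a 0<|a 0<|a 0<|b) (a 0<|a 1<|a (m1)<|a 1<|a (m1)<|a 0<|a 0<|b))<|c (e (a 0<|a 1<|a 0<|a 1<|a 1<|a 0<|a 0<|b) (a 0<|a 1<|a (m1)<|a 0<|a 1<|a (m1)<|a 0<|b))<|c (e (a 0<|a 1<|a 0<|a 1<|a 1<|a 1<|a 0<|b) (a 0<|a 1<|a (m1)<|a 0<|a 0<|a 1<|a (m1)<|b))<|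
 d)));
 (let d:=(let d:=(c (e (a 0<|a 0<|a 1<|a 1<|a 0<|a 0<|a 0<|b) (a (m1)<|a (m1)<|a 1<|a 1<|a (m1)<|a 0<|a 0<|b))<|c (e (a 0<|a 0<|a 1<|a 1<|a 1<|a 0<|a 0<|b) (a (m1)<|a (m1)<|a 1<|a 0<|a 1<|a (m1)<|a 0<|b))<|
 c (e (a 0<|a 0<|a 1<|a 1<|a 1<|a 1<|a 0<|b) (a (m1)<|a (m1)<|a 1<|a 0<|a 0<|a 1<|a (m1)<|b))<|c (e (a 0<|a 0<|a 1<|a 1<|a 1<|a 1<|a 1<|b) (a (m1)<|a (m1)<|a 1<|a 0<|a 0<|a 0<|a 1<|b))<|d);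
 (c (e (a 0<|a 0<|a 0<|a 1<|a 1<|a 0<|a 0<|b) (a 0<|a (m1)<|a (m1)<|a 1<|a 1<|a (m1)<|a 0<|b))<|c (e (a 0<|a 0<|a 0<|a 1<|a 1<|a 1<|a 0<|b) (a 0<|a (m1)<|a (m1)<|a 1<|a 0<|a 1<|a (m1)<|b))<|c (e (a 0<|a 0<|a 0<|a 1<|a 1<|a 1<|a 1<|b) (a 0<|a (m1)<|a (m1)<|a 1<|a 0<|a 0<|a 1<|b))<|
 c (e (a 0<|a 0<|a 1<|a 0<|a 0<|a 0<|a 0<|b) (a (m1)<|a 0<|a 2<|a (m1)<|a 0<|a 0<|a 0<|b))<|d));
 (c (e (a 0<|a 0<|a 0<|a 0<|a 0<|a 0<|a 1<|b) (a 0<|a 0<|a 0<|a 0<|a 0<|a (m1)<|a 2<|b))<|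
 c (e (a 0<|a 0<|a 0<|a 0<|a 0<|a 1<|a 0<|b) (a 0<|a 0<|a 0<|a 0<|a (m1)<|a 2<|a (m1)<|b))<|c (e (a 0<|a 0<|a 0<|a 0<|a 0<|a 1<|a 1<|b) (a 0<|a 0<|a 0<|a 0<|a (m1)<|a 1<|a 1<|b))<|c (e (a 0<|a 0<|a 0<|a 0<|a 1<|a 0<|a 0<|b) (a 0<|a 0<|a 0<|a (m1)<|a 2<|a (m1)<|a 0<|b))<|
 c (e (a 0<|a 0<|a 0<|a 0<|a 1<|a 1<|a 0<|b) (a 0<|a 0<|a 0<|a (m1)<|a 1<|a 1<|a (m1)<|b))<|c (e (a 0<|a 0<|a 0<|a 0<|a 1<|a 1<|a 1<|b) (a 0<|a 0<|a 0<|a (m1)<|a 1<|a 0<|a 1<|b))<|c (e (a 0<|a 0<|a 0<|a 1<|a 0<|a 0<|a 0<|b) (a 0<|a (m1)<|a (m1)<|a 2<|a (m1)<|a 0<|a 0<|b))<|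
 d))));
 (let d:=(let d:=(let d:=(let d:=(c (e (a 0<|a 0<|a 0<|a 0<|a (m1)<|a 0<|a 0<|b) (a 0<|a 0<|a 0<|a 1<|a (m2)<|a 1<|a 0<|b))<|c (e (a 0<|a 0<|a 0<|a 0<|a 0<|a (m1)<|a (m1)<|b) (a 0<|a 0<|a 0<|a 0<|a 1<|a (m1)<|a (m1)<|b))<|
 c (e (a 0<|a 0<|a 0<|a 0<|a 0<|a (m1)<|a 0<|b) (a 0<|a 0<|a 0<|a 0<|a 1<|a (m2)<|a 1<|b))<|c (e (a 0<|a 0<|a 0<|a 0<|a 0<|a 0<|a (m1)<|b) (a 0<|a 0<|a 0<|a 0<|a 0<|a 1<|a (m2)<|b))<|d);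
 (c (e (a 0<|a 0<|a 0<|a (m1)<|a (m1)<|a 0<|a 0<|b) (a 0<|a 1<|a 1<|a (m1)<|a (m1)<|a 1<|a 0<|b))<|c (e (a 0<|a 0<|a 0<|a (m1)<|a 0<|a 0<|a 0<|b) (a 0<|a 1<|a 1<|a (m2)<|a 1<|a 0<|a 0<|b))<|c (e (a 0<|a 0<|a 0<|a 0<|a (m1)<|a (m1)<|a (m1)<|b) (a 0<|a 0<|a 0<|a 1<|a (m1)<|a 0<|a (m1)<|b))<|
 c (e (a 0<|a 0<|a 0<|a 0<|a (m1)<|a (m1)<|a 0<|b) (a 0<|a 0<|a 0<|a 1<|a (m1)<|a (m1)<|a 1<|b))<|d));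
 (let d:=(c (e (a 0<|a 0<|a (m1)<|a (m1)<|a 0<|a 0<|a 0<|b) (a 1<|a 1<|a (m1)<|a (m1)<|a 1<|a 0<|a 0<|b))<|
 c (e (a 0<|a 0<|a (m1)<|a 0<|a 0<|a 0<|a 0<|b) (a 1<|a 0<|a (m2)<|a 1<|a 0<|a 0<|a 0<|b))<|c (e (a 0<|a 0<|a 0<|a (m1)<|a (m1)<|a (m1)<|a (m1)<|b) (a 0<|a 1<|a 1<|a (m1)<|a 0<|a 0<|a (m1)<|b))<|c (e (a 0<|a 0<|a 0<|a (m1)<|a (m1)<|a (m1)<|a 0<|b) (a 0<|a 1<|a 1<|a (m1)<|a 0<|a (m1)<|a 1<|b))<|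
 d);
 (c (e (a 0<|a (m1)<|a 0<|a 0<|a 0<|a 0<|a 0<|b) (a 0<|a (m2)<|a 0<|a 1<|a 0<|a 0<|a 0<|b))<|c (e (a 0<|a 0<|a (m1)<|a (m1)<|a (m1)<|a (m1)<|a (m1)<|b) (a 1<|a 1<|a (m1)<|a 0<|a 0<|a 0<|a (m1)<|b))<|
 c (e (a 0<|a 0<|a (m1)<|a (m1)<|a (m1)<|a (m1)<|a 0<|b) (a 1<|a 1<|a (m1)<|a 0<|a 0<|a (m1)<|a 1<|b))<|c (e (a 0<|a 0<|a (m1)<|a (m1)<|a (m1)<|a 0<|a 0<|b) (a 1<|a 1<|a (m1)<|a 0<|a (m1)<|a 1<|a 0<|b))<|d)));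
 (let d:=(let d:=(c (e (a 0<|a (m1)<|a 0<|a (m1)<|a (m1)<|a (m1)<|a (m1)<|b) (a 0<|a (m1)<|a 1<|a 0<|a 0<|a 0<|a (m1)<|b))<|c (e (a 0<|a (m1)<|a 0<|a (m1)<|a (m1)<|a (m1)<|a 0<|b) (a 0<|a (m1)<|a 1<|a 0<|a 0<|a (m1)<|a 1<|b))<|c (e (a 0<|a (m1)<|a 0<|a (m1)<|a (m1)<|a 0<|a 0<|b) (a 0<|a (m1)<|a 1<|a 0<|a (m1)<|a 1<|a 0<|b))<|
 c (e (a 0<|a (m1)<|a 0<|a (m1)<|a 0<|a 0<|a 0<|b) (a 0<|a (m1)<|a 1<|a (m1)<|a 1<|a 0<|a 0<|b))<|d);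
 (c (e (a 0<|a (m1)<|a (m1)<|a (m1)<|a (m1)<|a (m1)<|a (m1)<|b) (a 1<|a (m1)<|a (m1)<|a 1<|a 0<|a 0<|a (m1)<|b))<|
 c (e (a 0<|a (m1)<|a (m1)<|a (m1)<|a (m1)<|a (m1)<|a 0<|b) (a 1<|a (m1)<|a (m1)<|a 1<|a 0<|a (m1)<|a 1<|b))<|c (e (a 0<|a (m1)<|a (m1)<|a (m1)<|a (m1)<|a 0<|a 0<|b) (a 1<|a (m1)<|a (m1)<|a 1<|a (m1)<|a 1<|a 0<|b))<|c (e (a 0<|a (m1)<|a (m1)<|a (m1)<|a 0<|a 0<|a 0<|b) (a 1<|a (m1)<|a (m1)<|a 0<|a 1<|a 0<|a 0<|b))<|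
 d));
 (let d:=(c (e (a 0<|a (m1)<|a (m1)<|a (m2)<|a (m2)<|a (m1)<|a 0<|b) (a 1<|a 0<|a 0<|a 0<|a (m1)<|a 0<|a 1<|b))<|c (e (a 0<|a (m1)<|a (m1)<|a (m2)<|a (m1)<|a (m1)<|a (m1)<|b) (a 1<|a 0<|a 0<|a (m1)<|a 1<|a 0<|a (m1)<|b))<|c (e (a 0<|a (m1)<|a (m1)<|a (m2)<|a (m1)<|a (m1)<|a 0<|b) (a 1<|a 0<|a 0<|a (m1)<|a 1<|a (m1)<|a 1<|b))<|
 c (e (a 0<|a (m1)<|a (m1)<|a (m2)<|a (m1)<|a 0<|a 0<|b) (a 1<|a 0<|a 0<|a (m1)<|a 0<|a 1<|a 0<|b))<|d);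
 (c (e (a (m1)<|a 0<|a (m1)<|a 0<|a 0<|a 0<|a 0<|b) (a (m1)<|a 0<|a (m1)<|a 1<|a 0<|a 0<|a 0<|b))<|
 c (e (a (m1)<|a 0<|a 0<|a 0<|a 0<|a 0<|a 0<|b) (a (m2)<|a 0<|a 1<|a 0<|a 0<|a 0<|a 0<|b))<|c (e (a 0<|a (m1)<|a (m1)<|a (m2)<|a (m2)<|a (m2)<|a (m1)<|b) (a 1<|a 0<|a 0<|a 0<|a 0<|a (m1)<|a 0<|b))<|c (e (a 0<|a (m1)<|a (m1)<|a (m2)<|a (m2)<|a (m1)<|a (m1)<|b) (a 1<|a 0<|a 0<|a 0<|a (m1)<|a 1<|a (m1)<|b))<|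
 d))));
 (let d:=(let d:=(let d:=(c (e (a (m1)<|a 0<|a (m1)<|a (m1)<|a (m1)<|a (m1)<|a (m1)<|b) (a (m1)<|a 1<|a 0<|a 0<|a 0<|a 0<|a (m1)<|b))<|c (e (a (m1)<|a 0<|a (m1)<|a (m1)<|a (m1)<|a (m1)<|a 0<|b) (a (m1)<|a 1<|a 0<|a 0<|a 0<|a (m1)<|a 1<|b))<|
 c (e (a (m1)<|a 0<|a (m1)<|a (m1)<|a (m1)<|a 0<|a 0<|b) (a (m1)<|a 1<|a 0<|a 0<|a (m1)<|a 1<|a 0<|b))<|c (e (a (m1)<|a 0<|a (m1)<|a (m1)<|a 0<|a 0<|a 0<|b) (a (m1)<|a 1<|a 0<|a (m1)<|a 1<|a 0<|a 0<|b))<|d);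
 (c (e (a (m1)<|a (m1)<|a (m1)<|a (m1)<|a (m1)<|a (m1)<|a (m1)<|b) (a (m1)<|a (m1)<|a 0<|a 1<|a 0<|a 0<|a (m1)<|b))<|
 c (e (a (m1)<|a (m1)<|a (m1)<|a (m1)<|a (m1)<|a (m1)<|a 0<|b) (a (m1)<|a (m1)<|a 0<|a 1<|a 0<|a (m1)<|a 1<|b))<|c (e (a (m1)<|a (m1)<|a (m1)<|a (m1)<|a (m1)<|a 0<|a 0<|b) (a (m1)<|a (m1)<|a 0<|a 1<|a (m1)<|a 1<|a 0<|b))<|
 c (e (a (m1)<|a (m1)<|a (m1)<|a (m1)<|a 0<|a 0<|a 0<|b) (a (m1)<|a (m1)<|a 0<|a 0<|a 1<|a 0<|a 0<|b))<|d));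
 (let d:=(c (e (a (m1)<|a (m1)<|a (m1)<|a (m2)<|a (m2)<|a (m1)<|a 0<|b) (a (m1)<|a 0<|a 1<|a 0<|a (m1)<|a 0<|a 1<|b))<|
 c (e (a (m1)<|a (m1)<|a (m1)<|a (m2)<|a (m1)<|a (m1)<|a (m1)<|b) (a (m1)<|a 0<|a 1<|a (m1)<|a 1<|a 0<|a (m1)<|b))<|c (e (a (m1)<|a (m1)<|a (m1)<|a (m2)<|a (m1)<|a (m1)<|a 0<|b) (a (m1)<|a 0<|a 1<|a (m1)<|a 1<|a (m1)<|a 1<|b))<|
 c (e (a (m1)<|a (m1)<|a (m1)<|a (m2)<|a (m1)<|a 0<|a 0<|b) (a (m1)<|a 0<|a 1<|a (m1)<|a 0<|a 1<|a 0<|b))<|d);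
 (c (e (a (m1)<|a (m1)<|a (m2)<|a (m2)<|a (m1)<|a (m1)<|a 0<|b) (a 0<|a 0<|a (m1)<|a 0<|a 1<|a (m1)<|a 1<|b))<|
 c (e (a (m1)<|a (m1)<|a (m2)<|a (m2)<|a (m1)<|a 0<|a 0<|b) (a 0<|a 0<|a (m1)<|a 0<|a 0<|a 1<|a 0<|b))<|c (e (a (m1)<|a (m1)<|a (m1)<|a (m2)<|a (m2)<|a (m2)<|a (m1)<|b) (a (m1)<|a 0<|a 1<|a 0<|a 0<|a (m1)<|a 0<|b))<|
 c (e (a (m1)<|a (m1)<|a (m1)<|a (m2)<|a (m2)<|a (m1)<|a (m1)<|b) (a (m1)<|a 0<|a 1<|a 0<|a (m1)<|a 1<|a (m1)<|b))<|d)));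
 (let d:=(let d:=(c (e (a (m1)<|a (m1)<|a (m2)<|a (m2)<|a (m2)<|a (m2)<|a (m1)<|b) (a 0<|a 0<|a (m1)<|a 1<|a 0<|a (m1)<|a 0<|b))<|
 c (e (a (m1)<|a (m1)<|a (m2)<|a (m2)<|a (m2)<|a (m1)<|a (m1)<|b) (a 0<|a 0<|a (m1)<|a 1<|a (m1)<|a 1<|a (m1)<|b))<|c (e (a (m1)<|a (m1)<|a (m2)<|a (m2)<|a (m2)<|a (m1)<|a 0<|b) (a 0<|a 0<|a (m1)<|a 1<|a (m1)<|a 0<|a 1<|b))<|
 c (e (a (m1)<|a (m1)<|a (m2)<|a (m2)<|a (m1)<|a (m1)<|a (m1)<|b) (a 0<|a 0<|a (m1)<|a 0<|a 1<|a 0<|a (m1)<|b))<|d);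
 (c (e (a (m1)<|a (m1)<|a (m2)<|a (m3)<|a (m3)<|a (m2)<|a (m1)<|b) (a 0<|a 1<|a 0<|a 0<|a (m1)<|a 0<|a 0<|b))<|
 c (e (a (m1)<|a (m1)<|a (m2)<|a (m3)<|a (m2)<|a (m2)<|a (m1)<|b) (a 0<|a 1<|a 0<|a (m1)<|a 1<|a (m1)<|a 0<|b))<|c (e (a (m1)<|a (m1)<|a (m2)<|a (m3)<|a (m2)<|a (m1)<|a (m1)<|b) (a 0<|a 1<|a 0<|a (m1)<|a 0<|a 1<|a (m1)<|b))<|
 c (e (a (m1)<|a (m1)<|a (m2)<|a (m3)<|a (m2)<|a (m1)<|a 0<|b) (a 0<|a 1<|a 0<|a (m1)<|a 0<|a 0<|a 1<|b))<|d));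
 (a (e (a (m2)<|a (m2)<|a (m3)<|a (m4)<|a (m3)<|a (m2)<|a (m1)<|b) (a (m1)<|a 0<|a 0<|a 0<|a 0<|a 0<|a 0<|b))<|a (e (a (m1)<|a (m2)<|a (m3)<|a (m4)<|a (m3)<|a (m2)<|a (m1)<|b) (a 1<|a 0<|a (m1)<|a 0<|a 0<|a 0<|a 0<|b))<|
 a (e (a (m1)<|a (m2)<|a (m2)<|a (m4)<|a (m3)<|a (m2)<|a (m1)<|b) (a 0<|a 0<|a 1<|a (m1)<|a 0<|a 0<|a 0<|b))<|a (e (a (m1)<|a (m2)<|a (m2)<|a (m3)<|a (m3)<|a (m2)<|a (m1)<|b) (a 0<|a (m1)<|a 0<|a 1<|a (m1)<|a 0<|a 0<|b))<|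
 a (e (a (m1)<|a (m2)<|a (m2)<|a (m3)<|a (m2)<|a (m2)<|a (m1)<|b) (a 0<|a (m1)<|a 0<|a 0<|a 1<|a (m1)<|a 0<|b))<|a (e (a (m1)<|a (m2)<|a (m2)<|a (m3)<|a (m2)<|a (m1)<|a (m1)<|b) (a 0<|a (m1)<|a 0<|a 0<|a 0<|a 1<|a (m1)<|b))<|
 a (e (a (m1)<|a (m2)<|a (m2)<|a (m3)<|a (m2)<|a (m1)<|a 0<|b) (a 0<|a (m1)<|a 0<|a 0<|a 0<|a 0<|a 1<|b))<|d))))))

/-- the roots and coroots of `E8` -/
def R8 : List En :=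
  (beta% delta% lq26c37e5939 fun a b c _ =>
 (let d:=(let d:=(let d:=(let d:=(let d:=(let d:=(c (e (a 2<|a 3<|a 4<|a 6<|a 5<|a 3<|a 2<|a 1<|b) (a 0<|a 0<|a 0<|a 0<|a 1<|a (m1)<|a 0<|a 0<|b))<|c (e (a 2<|a 3<|a 4<|a 6<|a 5<|a 4<|a 2<|a 1<|b) (a 0<|a 0<|a 0<|a 0<|a 0<|a 1<|a (m1)<|a 0<|b))<|c (e (a 2<|a 3<|a 4<|a 6<|a 5<|a 4<|a 3<|a 1<|b) (a 0<|a 0<|a 0<|a 0<|a 0<|a 0<|a 1<|a (m1)<|b))<|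
 c (e (a 2<|a 3<|a 4<|a 6<|a 5<|a 4<|a 3<|a 2<|b) (a 0<|a 0<|a 0<|a 0<|a 0<|a 0<|a 0<|a 1<|b))<|b);
 (c (e (a 2<|a 2<|a 4<|a 5<|a 4<|a 3<|a 2<|a 1<|b) (a 0<|a (m1)<|a 1<|a 0<|a 0<|a 0<|a 0<|a 0<|b))<|
 c (e (a 2<|a 3<|a 3<|a 5<|a 4<|a 3<|a 2<|a 1<|b) (a 1<|a 1<|a (m1)<|a 0<|a 0<|a 0<|a 0<|a 0<|b))<|c (e (a 2<|a 3<|a 4<|a 5<|a 4<|a 3<|a 2<|a 1<|b) (a 0<|a 1<|a 1<|a (m1)<|a 0<|a 0<|a 0<|a 0<|b))<|c (e (a 2<|a 3<|a 4<|a 6<|a 4<|a 3<|a 2<|a 1<|b) (a 0<|a 0<|a 0<|a 1<|a (m1)<|a 0<|a 0<|a 0<|b))<|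
 d));
 (c (e (a 1<|a 3<|a 3<|a 5<|a 4<|a 3<|a 2<|a 1<|b) (a (m1)<|a 1<|a 0<|a 0<|a 0<|a 0<|a 0<|a 0<|b))<|c (e (a 2<|a 2<|a 3<|a 4<|a 3<|a 2<|a 1<|a 0<|b) (a 1<|a 0<|a 0<|a 0<|a 0<|a 0<|a 0<|a (m1)<|b))<|
 c (e (a 2<|a 2<|a 3<|a 4<|a 3<|a 2<|a 1<|a 1<|b) (a 1<|a 0<|a 0<|a 0<|a 0<|a 0<|a (m1)<|a 1<|b))<|c (e (a 2<|a 2<|a 3<|a 4<|a 3<|a 2<|a 2<|a 1<|b) (a 1<|a 0<|a 0<|a 0<|a 0<|a (m1)<|a 1<|a 0<|b))<|c (e (a 2<|a 2<|a 3<|a 4<|a 3<|a 3<|a 2<|a 1<|b) (a 1<|a 0<|a 0<|a 0<|a (m1)<|a 1<|a 0<|a 0<|b))<|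
 c (e (a 2<|a 2<|a 3<|a 4<|a 4<|a 3<|a 2<|a 1<|b) (a 1<|a 0<|a 0<|a (m1)<|a 1<|a 0<|a 0<|a 0<|b))<|c (e (a 2<|a 2<|a 3<|a 5<|a 4<|a 3<|a 2<|a 1<|b) (a 1<|a (m1)<|a (m1)<|a 1<|a 0<|a 0<|a 0<|a 0<|b))<|d));
 (let d:=(let d:=(c (e (a 1<|a 2<|a 3<|a 4<|a 3<|a 2<|a 2<|a 1<|b) (a (m1)<|a 0<|a 1<|a 0<|a 0<|a (m1)<|a 1<|a 0<|b))<|c (e (a 1<|a 2<|a 3<|a 4<|a 3<|a 3<|a 2<|a 1<|b) (a (m1)<|a 0<|a 1<|a 0<|a (m1)<|a 1<|a 0<|a 0<|b))<|c (e (a 1<|a 2<|a 3<|a 4<|a 4<|a 3<|a 2<|a 1<|b) (a (m1)<|a 0<|a 1<|a (m1)<|a 1<|a 0<|a 0<|a 0<|b))<|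
 c (e (a 1<|a 2<|a 3<|a 5<|a 4<|a 3<|a 2<|a 1<|b) (a (m1)<|a (m1)<|a 0<|a 1<|a 0<|a 0<|a 0<|a 0<|b))<|d);
 (c (e (a 1<|a 2<|a 2<|a 4<|a 3<|a 3<|a 2<|a 1<|b) (a 0<|a 0<|a (m1)<|a 1<|a (m1)<|a 1<|a 0<|a 0<|b))<|
 c (e (a 1<|a 2<|a 2<|a 4<|a 4<|a 3<|a 2<|a 1<|b) (a 0<|a 0<|a (m1)<|a 0<|a 1<|a 0<|a 0<|a 0<|b))<|c (e (a 1<|a 2<|a 3<|a 4<|a 3<|a 2<|a 1<|a 0<|b) (a (m1)<|a 0<|a 1<|a 0<|a 0<|a 0<|a 0<|a (m1)<|b))<|c (e (a 1<|a 2<|a 3<|a 4<|a 3<|a 2<|a 1<|a 1<|b) (a (m1)<|a 0<|a 1<|a 0<|a 0<|a 0<|a (m1)<|a 1<|b))<|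
 d));
 (c (e (a 1<|a 2<|a 2<|a 3<|a 3<|a 2<|a 1<|a 0<|b) (a 0<|a 1<|a 0<|a (m1)<|a 1<|a 0<|a 0<|a (m1)<|b))<|c (e (a 1<|a 2<|a 2<|a 3<|a 3<|a 2<|a 1<|a 1<|b) (a 0<|a 1<|a 0<|a (m1)<|a 1<|a 0<|a (m1)<|a 1<|b))<|
 c (e (a 1<|a 2<|a 2<|a 3<|a 3<|a 2<|a 2<|a 1<|b) (a 0<|a 1<|a 0<|a (m1)<|a 1<|a (m1)<|a 1<|a 0<|b))<|c (e (a 1<|a 2<|a 2<|a 3<|a 3<|a 3<|a 2<|a 1<|b) (a 0<|a 1<|a 0<|a (m1)<|a 0<|a 1<|a 0<|a 0<|b))<|c (e (a 1<|a 2<|a 2<|a 4<|a 3<|a 2<|a 1<|a 0<|b) (a 0<|a 0<|a (m1)<|a 1<|a 0<|a 0<|a 0<|a (m1)<|b))<|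
 c (e (a 1<|a 2<|a 2<|a 4<|a 3<|a 2<|a 1<|a 1<|b) (a 0<|a 0<|a (m1)<|a 1<|a 0<|a 0<|a (m1)<|a 1<|b))<|c (e (a 1<|a 2<|a 2<|a 4<|a 3<|a 2<|a 2<|a 1<|b) (a 0<|a 0<|a (m1)<|a 1<|a 0<|a (m1)<|a 1<|a 0<|b))<|d)));
 (let d:=(let d:=(let d:=(c (e (a 1<|a 2<|a 2<|a 3<|a 2<|a 1<|a 1<|a 1<|b) (a 0<|a 1<|a 0<|a 0<|a 0<|a (m1)<|a 0<|a 1<|b))<|c (e (a 1<|a 2<|a 2<|a 3<|a 2<|a 2<|a 1<|a 0<|b) (a 0<|a 1<|a 0<|a 0<|a (m1)<|a 1<|a 0<|a (m1)<|b))<|c (e (a 1<|a 2<|a 2<|a 3<|a 2<|a 2<|a 1<|a 1<|b) (a 0<|a 1<|a 0<|a 0<|a (m1)<|a 1<|a (m1)<|a 1<|b))<|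
 c (e (a 1<|a 2<|a 2<|a 3<|a 2<|a 2<|a 2<|a 1<|b) (a 0<|a 1<|a 0<|a 0<|a (m1)<|a 0<|a 1<|a 0<|b))<|d);
 (c (e (a 1<|a 1<|a 2<|a 3<|a 3<|a 2<|a 2<|a 1<|b) (a 0<|a (m1)<|a 0<|a 0<|a 1<|a (m1)<|a 1<|a 0<|b))<|
 c (e (a 1<|a 1<|a 2<|a 3<|a 3<|a 3<|a 2<|a 1<|b) (a 0<|a (m1)<|a 0<|a 0<|a 0<|a 1<|a 0<|a 0<|b))<|c (e (a 1<|a 2<|a 2<|a 3<|a 2<|a 1<|a 0<|a 0<|b) (a 0<|a 1<|a 0<|a 0<|a 0<|a 0<|a (m1)<|a 0<|b))<|c (e (a 1<|a 2<|a 2<|a 3<|a 2<|a 1<|a 1<|a 0<|b) (a 0<|a 1<|a 0<|a 0<|a 0<|a (m1)<|a 1<|a (m1)<|b))<|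
 d));
 (c (e (a 1<|a 1<|a 2<|a 3<|a 2<|a 1<|a 1<|a 0<|b) (a 0<|a (m1)<|a 0<|a 1<|a 0<|a (m1)<|a 1<|a (m1)<|b))<|c (e (a 1<|a 1<|a 2<|a 3<|a 2<|a 1<|a 1<|a 1<|b) (a 0<|a (m1)<|a 0<|a 1<|a 0<|a (m1)<|a 0<|a 1<|b))<|
 c (e (a 1<|a 1<|a 2<|a 3<|a 2<|a 2<|a 1<|a 0<|b) (a 0<|a (m1)<|a 0<|a 1<|a (m1)<|a 1<|a 0<|a (m1)<|b))<|c (e (a 1<|a 1<|a 2<|a 3<|a 2<|a 2<|a 1<|a 1<|b) (a 0<|a (m1)<|a 0<|a 1<|a (m1)<|a 1<|a (m1)<|a 1<|b))<|c (e (a 1<|a 1<|a 2<|a 3<|a 2<|a 2<|a 2<|a 1<|b) (a 0<|a (m1)<|a 0<|a 1<|a (m1)<|a 0<|a 1<|a 0<|b))<|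
 c (e (a 1<|a 1<|a 2<|a 3<|a 3<|a 2<|a 1<|a 0<|b) (a 0<|a (m1)<|a 0<|a 0<|a 1<|a 0<|a 0<|a (m1)<|b))<|c (e (a 1<|a 1<|a 2<|a 3<|a 3<|a 2<|a 1<|a 1<|b) (a 0<|a (m1)<|a 0<|a 0<|a 1<|a 0<|a (m1)<|a 1<|b))<|d));
 (let d:=(let d:=(c (e (a 1<|a 1<|a 2<|a 2<|a 2<|a 2<|a 1<|a 0<|b) (a 0<|a 0<|a 1<|a (m1)<|a 0<|a 1<|a 0<|a (m1)<|b))<|c (e (a 1<|a 1<|a 2<|a 2<|a 2<|a 2<|a 1<|a 1<|b) (a 0<|a 0<|a 1<|a (m1)<|a 0<|a 1<|a (m1)<|a 1<|b))<|c (e (a 1<|a 1<|a 2<|a 2<|a 2<|a 2<|a 2<|a 1<|b) (a 0<|a 0<|a 1<|a (m1)<|a 0<|a 0<|a 1<|a 0<|b))<|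
 c (e (a 1<|a 1<|a 2<|a 3<|a 2<|a 1<|a 0<|a 0<|b) (a 0<|a (m1)<|a 0<|a 1<|a 0<|a 0<|a (m1)<|a 0<|b))<|d);
 (c (e (a 1<|a 1<|a 2<|a 2<|a 1<|a 1<|a 1<|a 1<|b) (a 0<|a 0<|a 1<|a 0<|a (m1)<|a 0<|a 0<|a 1<|b))<|
 c (e (a 1<|a 1<|a 2<|a 2<|a 2<|a 1<|a 0<|a 0<|b) (a 0<|a 0<|a 1<|a (m1)<|a 1<|a 0<|a (m1)<|a 0<|b))<|c (e (a 1<|a 1<|a 2<|a 2<|a 2<|a 1<|a 1<|a 0<|b) (a 0<|a 0<|a 1<|a (m1)<|a 1<|a (m1)<|a 1<|a (m1)<|b))<|c (e (a 1<|a 1<|a 2<|a 2<|a 2<|a 1<|a 1<|a 1<|b) (a 0<|a 0<|a 1<|a (m1)<|a 1<|a (m1)<|a 0<|a 1<|b))<|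
 d));
 (c (e (a 1<|a 1<|a 1<|a 2<|a 2<|a 1<|a 1<|a 1<|b) (a 1<|a 0<|a (m1)<|a 0<|a 1<|a (m1)<|a 0<|a 1<|b))<|c (e (a 1<|a 1<|a 1<|a 2<|a 2<|a 2<|a 1<|a 0<|b) (a 1<|a 0<|a (m1)<|a 0<|a 0<|a 1<|a 0<|a (m1)<|b))<|
 c (e (a 1<|a 1<|a 1<|a 2<|a 2<|a 2<|a 1<|a 1<|b) (a 1<|a 0<|a (m1)<|a 0<|a 0<|a 1<|a (m1)<|a 1<|b))<|c (e (a 1<|a 1<|a 1<|a 2<|a 2<|a 2<|a 2<|a 1<|b) (a 1<|a 0<|a (m1)<|a 0<|a 0<|a 0<|a 1<|a 0<|b))<|c (e (a 1<|a 1<|a 2<|a 2<|a 1<|a 0<|a 0<|a 0<|b) (a 0<|a 0<|a 1<|a 0<|a 0<|a (m1)<|a 0<|a 0<|b))<|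
 c (e (a 1<|a 1<|a 2<|a 2<|a 1<|a 1<|a 0<|a 0<|b) (a 0<|a 0<|a 1<|a 0<|a (m1)<|a 1<|a (m1)<|a 0<|b))<|c (e (a 1<|a 1<|a 2<|a 2<|a 1<|a 1<|a 1<|a 0<|b) (a 0<|a 0<|a 1<|a 0<|a (m1)<|a 0<|a 1<|a (m1)<|b))<|d))));
 (let d:=(let d:=(let d:=(let d:=(c (e (a 1<|a 1<|a 1<|a 2<|a 1<|a 1<|a 1<|a 0<|b) (a 1<|a 0<|a (m1)<|a 1<|a (m1)<|a 0<|a 1<|a (m1)<|b))<|c (e (a 1<|a 1<|a 1<|a 2<|a 1<|a 1<|a 1<|a 1<|b) (a 1<|a 0<|a (m1)<|a 1<|a (m1)<|a 0<|a 0<|a 1<|b))<|c (e (a 1<|a 1<|a 1<|a 2<|a 2<|a 1<|a 0<|a 0<|b) (a 1<|a 0<|a (m1)<|a 0<|a 1<|a 0<|a (m1)<|a 0<|b))<|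
 c (e (a 1<|a 1<|a 1<|a 2<|a 2<|a 1<|a 1<|a 0<|b) (a 1<|a 0<|a (m1)<|a 0<|a 1<|a (m1)<|a 1<|a (m1)<|b))<|d);
 (c (e (a 1<|a 1<|a 1<|a 1<|a 1<|a 1<|a 1<|a 0<|b) (a 1<|a 1<|a 0<|a (m1)<|a 0<|a 0<|a 1<|a (m1)<|b))<|
 c (e (a 1<|a 1<|a 1<|a 1<|a 1<|a 1<|a 1<|a 1<|b) (a 1<|a 1<|a 0<|a (m1)<|a 0<|a 0<|a 0<|a 1<|b))<|c (e (a 1<|a 1<|a 1<|a 2<|a 1<|a 0<|a 0<|a 0<|b) (a 1<|a 0<|a (m1)<|a 1<|a 0<|a (m1)<|a 0<|a 0<|b))<|c (e (a 1<|a 1<|a 1<|a 2<|a 1<|a 1<|a 0<|a 0<|b) (a 1<|a 0<|a (m1)<|a 1<|a (m1)<|a 1<|a (m1)<|a 0<|b))<|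
 d));
 (c (e (a 1<|a 0<|a 1<|a 1<|a 1<|a 0<|a 0<|a 0<|b) (a 1<|a (m1)<|a 0<|a 0<|a 1<|a (m1)<|a 0<|a 0<|b))<|c (e (a 1<|a 0<|a 1<|a 1<|a 1<|a 1<|a 0<|a 0<|b) (a 1<|a (m1)<|a 0<|a 0<|a 0<|a 1<|a (m1)<|a 0<|b))<|
 c (e (a 1<|a 0<|a 1<|a 1<|a 1<|a 1<|a 1<|a 0<|b) (a 1<|a (m1)<|a 0<|a 0<|a 0<|a 0<|a 1<|a (m1)<|b))<|c (e (a 1<|a 0<|a 1<|a 1<|a 1<|a 1<|a 1<|a 1<|b) (a 1<|a (m1)<|a 0<|a 0<|a 0<|a 0<|a 0<|a 1<|b))<|c (e (a 1<|a 1<|a 1<|a 1<|a 0<|a 0<|a 0<|a 0<|b) (a 1<|a 1<|a 0<|a 0<|a (m1)<|a 0<|a 0<|a 0<|b))<|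
 c (e (a 1<|a 1<|a 1<|a 1<|a 1<|a 0<|a 0<|a 0<|b) (a 1<|a 1<|a 0<|a (m1)<|a 1<|a (m1)<|a 0<|a 0<|b))<|c (e (a 1<|a 1<|a 1<|a 1<|a 1<|a 1<|a 0<|a 0<|b) (a 1<|a 1<|a 0<|a (m1)<|a 0<|a 1<|a (m1)<|a 0<|b))<|d));
 (let d:=(let d:=(c (e (a 0<|a 1<|a 1<|a 2<|a 2<|a 2<|a 2<|a 1<|b) (a (m1)<|a 0<|a 0<|a 0<|a 0<|a 0<|a 1<|a 0<|b))<|c (e (a 1<|a 0<|a 0<|a 0<|a 0<|a 0<|a 0<|a 0<|b) (a 2<|a 0<|a (m1)<|a 0<|a 0<|a 0<|a 0<|a 0<|b))<|c (e (a 1<|a 0<|a 1<|a 0<|a 0<|a 0<|a 0<|a 0<|b) (a 1<|a 0<|a 1<|a (m1)<|a 0<|a 0<|a 0<|a 0<|b))<|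
 c (e (a 1<|a 0<|a 1<|a 1<|a 0<|a 0<|a 0<|a 0<|b) (a 1<|a (m1)<|a 0<|a 1<|a (m1)<|a 0<|a 0<|a 0<|b))<|d);
 (c (e (a 0<|a 1<|a 1<|a 2<|a 2<|a 1<|a 1<|a 0<|b) (a (m1)<|a 0<|a 0<|a 0<|a 1<|a (m1)<|a 1<|a (m1)<|b))<|
 c (e (a 0<|a 1<|a 1<|a 2<|a 2<|a 1<|a 1<|a 1<|b) (a (m1)<|a 0<|a 0<|a 0<|a 1<|a (m1)<|a 0<|a 1<|b))<|c (e (a 0<|a 1<|a 1<|a 2<|a 2<|a 2<|a 1<|a 0<|b) (a (m1)<|a 0<|a 0<|a 0<|a 0<|a 1<|a 0<|a (m1)<|b))<|c (e (a 0<|a 1<|a 1<|a 2<|a 2<|a 2<|a 1<|a 1<|b) (a (m1)<|a 0<|a 0<|a 0<|a 0<|a 1<|a (m1)<|a 1<|b))<|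
 d));
 (c (e (a 0<|a 1<|a 1<|a 1<|a 1<|a 1<|a 1<|a 0<|b) (a (m1)<|a 1<|a 1<|a (m1)<|a 0<|a 0<|a 1<|a (m1)<|b))<|c (e (a 0<|a 1<|a 1<|a 1<|a 1<|a 1<|a 1<|a 1<|b) (a (m1)<|a 1<|a 1<|a (m1)<|a 0<|a 0<|a 0<|a 1<|b))<|
 c (e (a 0<|a 1<|a 1<|a 2<|a 1<|a 0<|a 0<|a 0<|b) (a (m1)<|a 0<|a 0<|a 1<|a 0<|a (m1)<|a 0<|a 0<|b))<|c (e (a 0<|a 1<|a 1<|a 2<|a 1<|a 1<|a 0<|a 0<|b) (a (m1)<|a 0<|a 0<|a 1<|a (m1)<|a 1<|a (m1)<|a 0<|b))<|c (e (a 0<|a 1<|a 1<|a 2<|a 1<|a 1<|a 1<|a 0<|b) (a (m1)<|a 0<|a 0<|a 1<|a (m1)<|a 0<|a 1<|a (m1)<|b))<|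
 c (e (a 0<|a 1<|a 1<|a 2<|a 1<|a 1<|a 1<|a 1<|b) (a (m1)<|a 0<|a 0<|a 1<|a (m1)<|a 0<|a 0<|a 1<|b))<|c (e (a 0<|a 1<|a 1<|a 2<|a 2<|a 1<|a 0<|a 0<|b) (a (m1)<|a 0<|a 0<|a 0<|a 1<|a 0<|a (m1)<|a 0<|b))<|d)));
 (let d:=(let d:=(let d:=(c (e (a 0<|a 1<|a 0<|a 1<|a 1<|a 1<|a 1<|a 1<|b) (a 0<|a 1<|a (m1)<|a 0<|a 0<|a 0<|a 0<|a 1<|b))<|c (e (a 0<|a 1<|a 1<|a 1<|a 0<|a 0<|a 0<|a 0<|b) (a (m1)<|a 1<|a 1<|a 0<|a (m1)<|a 0<|a 0<|a 0<|b))<|c (e (a 0<|a 1<|a 1<|a 1<|a 1<|a 0<|a 0<|a 0<|b) (a (m1)<|a 1<|a 1<|a (m1)<|a 1<|a (m1)<|a 0<|a 0<|b))<|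
 c (e (a 0<|a 1<|a 1<|a 1<|a 1<|a 1<|a 0<|a 0<|b) (a (m1)<|a 1<|a 1<|a (m1)<|a 0<|a 1<|a (m1)<|a 0<|b))<|d);
 (c (e (a 0<|a 1<|a 0<|a 1<|a 0<|a 0<|a 0<|a 0<|b) (a 0<|a 1<|a (m1)<|a 1<|a (m1)<|a 0<|a 0<|a 0<|b))<|
 c (e (a 0<|a 1<|a 0<|a 1<|a 1<|a 0<|a 0<|a 0<|b) (a 0<|a 1<|a (m1)<|a 0<|a 1<|a (m1)<|a 0<|a 0<|b))<|c (e (a 0<|a 1<|a 0<|a 1<|a 1<|a 1<|a 0<|a 0<|b) (a 0<|a 1<|a (m1)<|a 0<|a 0<|a 1<|a (m1)<|a 0<|b))<|c (e (a 0<|a 1<|a 0<|a 1<|a 1<|a 1<|a 1<|a 0<|b) (a 0<|a 1<|a (m1)<|a 0<|a 0<|a 0<|a 1<|a (m1)<|b))<|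
 d));
 (c (e (a 0<|a 0<|a 1<|a 0<|a 0<|a 0<|a 0<|a 0<|b) (a (m1)<|a 0<|a 2<|a (m1)<|a 0<|a 0<|a 0<|a 0<|b))<|c (e (a 0<|a 0<|a 1<|a 1<|a 0<|a 0<|a 0<|a 0<|b) (a (m1)<|a (m1)<|a 1<|a 1<|a (m1)<|a 0<|a 0<|a 0<|b))<|
 c (e (a 0<|a 0<|a 1<|a 1<|a 1<|a 0<|a 0<|a 0<|b) (a (m1)<|a (m1)<|a 1<|a 0<|a 1<|a (m1)<|a 0<|a 0<|b))<|c (e (a 0<|a 0<|a 1<|a 1<|a 1<|a 1<|a 0<|a 0<|b) (a (m1)<|a (m1)<|a 1<|a 0<|a 0<|a 1<|a (m1)<|a 0<|b))<|c (e (a 0<|a 0<|a 1<|a 1<|a 1<|a 1<|a 1<|a 0<|b) (a (m1)<|a (m1)<|a 1<|a 0<|a 0<|a 0<|a 1<|a (m1)<|b))<|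
 c (e (a 0<|a 0<|a 1<|a 1<|a 1<|a 1<|a 1<|a 1<|b) (a (m1)<|a (m1)<|a 1<|a 0<|a 0<|a 0<|a 0<|a 1<|b))<|c (e (a 0<|a 1<|a 0<|a 0<|a 0<|a 0<|a 0<|a 0<|b) (a 0<|a 2<|a 0<|a (m1)<|a 0<|a 0<|a 0<|a 0<|b))<|d));
 (let d:=(let d:=(c (e (a 0<|a 0<|a 0<|a 1<|a 1<|a 0<|a 0<|a 0<|b) (a 0<|a (m1)<|a (m1)<|a 1<|a 1<|a (m1)<|a 0<|a 0<|b))<|c (e (a 0<|a 0<|a 0<|a 1<|a 1<|a 1<|a 0<|a 0<|b) (a 0<|a (m1)<|a (m1)<|a 1<|a 0<|a 1<|a (m1)<|a 0<|b))<|c (e (a 0<|a 0<|a 0<|a 1<|a 1<|a 1<|a 1<|a 0<|b) (a 0<|a (m1)<|a (m1)<|a 1<|a 0<|a 0<|a 1<|a (m1)<|b))<|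
 c (e (a 0<|a 0<|a 0<|a 1<|a 1<|a 1<|a 1<|a 1<|b) (a 0<|a (m1)<|a (m1)<|a 1<|a 0<|a 0<|a 0<|a 1<|b))<|d);
 (c (e (a 0<|a 0<|a 0<|a 0<|a 1<|a 1<|a 0<|a 0<|b) (a 0<|a 0<|a 0<|a (m1)<|a 1<|a 1<|a (m1)<|a 0<|b))<|
 c (e (a 0<|a 0<|a 0<|a 0<|a 1<|a 1<|a 1<|a 0<|b) (a 0<|a 0<|a 0<|a (m1)<|a 1<|a 0<|a 1<|a (m1)<|b))<|c (e (a 0<|a 0<|a 0<|a 0<|a 1<|a 1<|a 1<|a 1<|b) (a 0<|a 0<|a 0<|a (m1)<|a 1<|a 0<|a 0<|a 1<|b))<|c (e (a 0<|a 0<|a 0<|a 1<|a 0<|a 0<|a 0<|a 0<|b) (a 0<|a (m1)<|a (m1)<|a 2<|a (m1)<|a 0<|a 0<|a 0<|b))<|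
 d));
 (c (e (a 0<|a 0<|a 0<|a 0<|a 0<|a 0<|a 0<|a 1<|b) (a 0<|a 0<|a 0<|a 0<|a 0<|a 0<|a (m1)<|a 2<|b))<|c (e (a 0<|a 0<|a 0<|a 0<|a 0<|a 0<|a 1<|a 0<|b) (a 0<|a 0<|a 0<|a 0<|a 0<|a (m1)<|a 2<|a (m1)<|b))<|
 c (e (a 0<|a 0<|a 0<|a 0<|a 0<|a 0<|a 1<|a 1<|b) (a 0<|a 0<|a 0<|a 0<|a 0<|a (m1)<|a 1<|a 1<|b))<|c (e (a 0<|a 0<|a 0<|a 0<|a 0<|a 1<|a 0<|a 0<|b) (a 0<|a 0<|a 0<|a 0<|a (m1)<|a 2<|a (m1)<|a 0<|b))<|c (e (a 0<|a 0<|a 0<|a 0<|a 0<|a 1<|a 1<|a 0<|b) (a 0<|a 0<|a 0<|a 0<|a (m1)<|a 1<|a 1<|a (m1)<|b))<|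
 c (e (a 0<|a 0<|a 0<|a 0<|a 0<|a 1<|a 1<|a 1<|b) (a 0<|a 0<|a 0<|a 0<|a (m1)<|a 1<|a 0<|a 1<|b))<|c (e (a 0<|a 0<|a 0<|a 0<|a 1<|a 0<|a 0<|a 0<|b) (a 0<|a 0<|a 0<|a (m1)<|a 2<|a (m1)<|a 0<|a 0<|b))<|d)))));
 (let d:=(let d:=(let d:=(let d:=(let d:=(c (e (a 0<|a 0<|a 0<|a 0<|a 0<|a (m1)<|a 0<|a 0<|b) (a 0<|a 0<|a 0<|a 0<|a 1<|a (m2)<|a 1<|a 0<|b))<|c (e (a 0<|a 0<|a 0<|a 0<|a 0<|a 0<|a (m1)<|a (m1)<|b) (a 0<|a 0<|a 0<|a 0<|a 0<|a 1<|a (m1)<|a (m1)<|b))<|c (e (a 0<|a 0<|a 0<|a 0<|a 0<|a 0<|a (m1)<|a 0<|b) (a 0<|a 0<|a 0<|a 0<|a 0<|a 1<|a (m2)<|a 1<|b))<|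
 c (e (a 0<|a 0<|a 0<|a 0<|a 0<|a 0<|a 0<|a (m1)<|b) (a 0<|a 0<|a 0<|a 0<|a 0<|a 0<|a 1<|a (m2)<|b))<|d);
 (c (e (a 0<|a 0<|a 0<|a 0<|a (m1)<|a (m1)<|a 0<|a 0<|b) (a 0<|a 0<|a 0<|a 1<|a (m1)<|a (m1)<|a 1<|a 0<|b))<|c (e (a 0<|a 0<|a 0<|a 0<|a (m1)<|a 0<|a 0<|a 0<|b) (a 0<|a 0<|a 0<|a 1<|a (m2)<|a 1<|a 0<|a 0<|b))<|
 c (e (a 0<|a 0<|a 0<|a 0<|a 0<|a (m1)<|a (m1)<|a (m1)<|b) (a 0<|a 0<|a 0<|a 0<|a 1<|a (m1)<|a 0<|a (m1)<|b))<|c (e (a 0<|a 0<|a 0<|a 0<|a 0<|a (m1)<|a (m1)<|a 0<|b) (a 0<|a 0<|a 0<|a 0<|a 1<|a (m1)<|a (m1)<|a 1<|b))<|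
 d));
 (c (e (a 0<|a 0<|a 0<|a (m1)<|a (m1)<|a (m1)<|a (m1)<|a (m1)<|b) (a 0<|a 1<|a 1<|a (m1)<|a 0<|a 0<|a 0<|a (m1)<|b))<|
 c (e (a 0<|a 0<|a 0<|a (m1)<|a (m1)<|a (m1)<|a (m1)<|a 0<|b) (a 0<|a 1<|a 1<|a (m1)<|a 0<|a 0<|a (m1)<|a 1<|b))<|c (e (a 0<|a 0<|a 0<|a (m1)<|a (m1)<|a (m1)<|a 0<|a 0<|b) (a 0<|a 1<|a 1<|a (m1)<|a 0<|a (m1)<|a 1<|a 0<|b))<|
 c (e (a 0<|a 0<|a 0<|a (m1)<|a (m1)<|a 0<|a 0<|a 0<|b) (a 0<|a 1<|a 1<|a (m1)<|a (m1)<|a 1<|a 0<|a 0<|b))<|c (e (a 0<|a 0<|a 0<|a (m1)<|a 0<|a 0<|a 0<|a 0<|b) (a 0<|a 1<|a 1<|a (m2)<|a 1<|a 0<|a 0<|a 0<|b))<|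
 c (e (a 0<|a 0<|a 0<|a 0<|a (m1)<|a (m1)<|a (m1)<|a (m1)<|b) (a 0<|a 0<|a 0<|a 1<|a (m1)<|a 0<|a 0<|a (m1)<|b))<|c (e (a 0<|a 0<|a 0<|a 0<|a (m1)<|a (m1)<|a (m1)<|a 0<|b) (a 0<|a 0<|a 0<|a 1<|a (m1)<|a 0<|a (m1)<|a 1<|b))<|
 d));
 (let d:=(let d:=(c (e (a 0<|a 0<|a (m1)<|a (m1)<|a (m1)<|a (m1)<|a 0<|a 0<|b) (a 1<|a 1<|a (m1)<|a 0<|a 0<|a (m1)<|a 1<|a 0<|b))<|
 c (e (a 0<|a 0<|a (m1)<|a (m1)<|a (m1)<|a 0<|a 0<|a 0<|b) (a 1<|a 1<|a (m1)<|a 0<|a (m1)<|a 1<|a 0<|a 0<|b))<|c (e (a 0<|a 0<|a (m1)<|a (m1)<|a 0<|a 0<|a 0<|a 0<|b) (a 1<|a 1<|a (m1)<|a (m1)<|a 1<|a 0<|a 0<|a 0<|b))<|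
 c (e (a 0<|a 0<|a (m1)<|a 0<|a 0<|a 0<|a 0<|a 0<|b) (a 1<|a 0<|a (m2)<|a 1<|a 0<|a 0<|a 0<|a 0<|b))<|d);
 (c (e (a 0<|a (m1)<|a 0<|a (m1)<|a 0<|a 0<|a 0<|a 0<|b) (a 0<|a (m1)<|a 1<|a (m1)<|a 1<|a 0<|a 0<|a 0<|b))<|
 c (e (a 0<|a (m1)<|a 0<|a 0<|a 0<|a 0<|a 0<|a 0<|b) (a 0<|a (m2)<|a 0<|a 1<|a 0<|a 0<|a 0<|a 0<|b))<|c (e (a 0<|a 0<|a (m1)<|a (m1)<|a (m1)<|a (m1)<|a (m1)<|a (m1)<|b) (a 1<|a 1<|a (m1)<|a 0<|a 0<|a 0<|a 0<|a (m1)<|b))<|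
 c (e (a 0<|a 0<|a (m1)<|a (m1)<|a (m1)<|a (m1)<|a (m1)<|a 0<|b) (a 1<|a 1<|a (m1)<|a 0<|a 0<|a 0<|a (m1)<|a 1<|b))<|d));
 (c (e (a 0<|a (m1)<|a (m1)<|a (m1)<|a (m1)<|a (m1)<|a 0<|a 0<|b) (a 1<|a (m1)<|a (m1)<|a 1<|a 0<|a (m1)<|a 1<|a 0<|b))<|c (e (a 0<|a (m1)<|a (m1)<|a (m1)<|a (m1)<|a 0<|a 0<|a 0<|b) (a 1<|a (m1)<|a (m1)<|a 1<|a (m1)<|a 1<|a 0<|a 0<|b))<|
 c (e (a 0<|a (m1)<|a (m1)<|a (m1)<|a 0<|a 0<|a 0<|a 0<|b) (a 1<|a (m1)<|a (m1)<|a 0<|a 1<|a 0<|a 0<|a 0<|b))<|c (e (a 0<|a (m1)<|a 0<|a (m1)<|a (m1)<|a (m1)<|a (m1)<|a (m1)<|b) (a 0<|a (m1)<|a 1<|a 0<|a 0<|a 0<|a 0<|a (m1)<|b))<|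
 c (e (a 0<|a (m1)<|a 0<|a (m1)<|a (m1)<|a (m1)<|a (m1)<|a 0<|b) (a 0<|a (m1)<|a 1<|a 0<|a 0<|a 0<|a (m1)<|a 1<|b))<|c (e (a 0<|a (m1)<|a 0<|a (m1)<|a (m1)<|a (m1)<|a 0<|a 0<|b) (a 0<|a (m1)<|a 1<|a 0<|a 0<|a (m1)<|a 1<|a 0<|b))<|
 c (e (a 0<|a (m1)<|a 0<|a (m1)<|a (m1)<|a 0<|a 0<|a 0<|b) (a 0<|a (m1)<|a 1<|a 0<|a (m1)<|a 1<|a 0<|a 0<|b))<|d)));
 (let d:=(let d:=(let d:=(c (e (a 0<|a (m1)<|a (m1)<|a (m2)<|a (m1)<|a (m1)<|a 0<|a 0<|b) (a 1<|a 0<|a 0<|a (m1)<|a 1<|a (m1)<|a 1<|a 0<|b))<|c (e (a 0<|a (m1)<|a (m1)<|a (m2)<|a (m1)<|a 0<|a 0<|a 0<|b) (a 1<|a 0<|a 0<|a (m1)<|a 0<|a 1<|a 0<|a 0<|b))<|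
 c (e (a 0<|a (m1)<|a (m1)<|a (m1)<|a (m1)<|a (m1)<|a (m1)<|a (m1)<|b) (a 1<|a (m1)<|a (m1)<|a 1<|a 0<|a 0<|a 0<|a (m1)<|b))<|c (e (a 0<|a (m1)<|a (m1)<|a (m1)<|a (m1)<|a (m1)<|a (m1)<|a 0<|b) (a 1<|a (m1)<|a (m1)<|a 1<|a 0<|a 0<|a (m1)<|a 1<|b))<|
 d);
 (c (e (a 0<|a (m1)<|a (m1)<|a (m2)<|a (m2)<|a (m1)<|a (m1)<|a 0<|b) (a 1<|a 0<|a 0<|a 0<|a (m1)<|a 1<|a (m1)<|a 1<|b))<|c (e (a 0<|a (m1)<|a (m1)<|a (m2)<|a (m2)<|a (m1)<|a 0<|a 0<|b) (a 1<|a 0<|a 0<|a 0<|a (m1)<|a 0<|a 1<|a 0<|b))<|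
 c (e (a 0<|a (m1)<|a (m1)<|a (m2)<|a (m1)<|a (m1)<|a (m1)<|a (m1)<|b) (a 1<|a 0<|a 0<|a (m1)<|a 1<|a 0<|a 0<|a (m1)<|b))<|c (e (a 0<|a (m1)<|a (m1)<|a (m2)<|a (m1)<|a (m1)<|a (m1)<|a 0<|b) (a 1<|a 0<|a 0<|a (m1)<|a 1<|a 0<|a (m1)<|a 1<|b))<|
 d));
 (c (e (a (m1)<|a 0<|a (m1)<|a (m1)<|a 0<|a 0<|a 0<|a 0<|b) (a (m1)<|a 1<|a 0<|a (m1)<|a 1<|a 0<|a 0<|a 0<|b))<|
 c (e (a (m1)<|a 0<|a (m1)<|a 0<|a 0<|a 0<|a 0<|a 0<|b) (a (m1)<|a 0<|a (m1)<|a 1<|a 0<|a 0<|a 0<|a 0<|b))<|c (e (a (m1)<|a 0<|a 0<|a 0<|a 0<|a 0<|a 0<|a 0<|b) (a (m2)<|a 0<|a 1<|a 0<|a 0<|a 0<|a 0<|a 0<|b))<|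
 c (e (a 0<|a (m1)<|a (m1)<|a (m2)<|a (m2)<|a (m2)<|a (m2)<|a (m1)<|b) (a 1<|a 0<|a 0<|a 0<|a 0<|a 0<|a (m1)<|a 0<|b))<|c (e (a 0<|a (m1)<|a (m1)<|a (m2)<|a (m2)<|a (m2)<|a (m1)<|a (m1)<|b) (a 1<|a 0<|a 0<|a 0<|a 0<|a (m1)<|a 1<|a (m1)<|b))<|
 c (e (a 0<|a (m1)<|a (m1)<|a (m2)<|a (m2)<|a (m2)<|a (m1)<|a 0<|b) (a 1<|a 0<|a 0<|a 0<|a 0<|a (m1)<|a 0<|a 1<|b))<|c (e (a 0<|a (m1)<|a (m1)<|a (m2)<|a (m2)<|a (m1)<|a (m1)<|a (m1)<|b) (a 1<|a 0<|a 0<|a 0<|a (m1)<|a 1<|a 0<|a (m1)<|b))<|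
 d));
 (let d:=(let d:=(c (e (a (m1)<|a 0<|a (m1)<|a (m1)<|a (m1)<|a (m1)<|a (m1)<|a (m1)<|b) (a (m1)<|a 1<|a 0<|a 0<|a 0<|a 0<|a 0<|a (m1)<|b))<|
 c (e (a (m1)<|a 0<|a (m1)<|a (m1)<|a (m1)<|a (m1)<|a (m1)<|a 0<|b) (a (m1)<|a 1<|a 0<|a 0<|a 0<|a 0<|a (m1)<|a 1<|b))<|c (e (a (m1)<|a 0<|a (m1)<|a (m1)<|a (m1)<|a (m1)<|a 0<|a 0<|b) (a (m1)<|a 1<|a 0<|a 0<|a 0<|a (m1)<|a 1<|a 0<|b))<|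
 c (e (a (m1)<|a 0<|a (m1)<|a (m1)<|a (m1)<|a 0<|a 0<|a 0<|b) (a (m1)<|a 1<|a 0<|a 0<|a (m1)<|a 1<|a 0<|a 0<|b))<|d);
 (c (e (a (m1)<|a (m1)<|a (m1)<|a (m1)<|a (m1)<|a (m1)<|a (m1)<|a 0<|b) (a (m1)<|a (m1)<|a 0<|a 1<|a 0<|a 0<|a (m1)<|a 1<|b))<|
 c (e (a (m1)<|a (m1)<|a (m1)<|a (m1)<|a (m1)<|a (m1)<|a 0<|a 0<|b) (a (m1)<|a (m1)<|a 0<|a 1<|a 0<|a (m1)<|a 1<|a 0<|b))<|c (e (a (m1)<|a (m1)<|a (m1)<|a (m1)<|a (m1)<|a 0<|a 0<|a 0<|b) (a (m1)<|a (m1)<|a 0<|a 1<|a (m1)<|a 1<|a 0<|a 0<|b))<|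
 c (e (a (m1)<|a (m1)<|a (m1)<|a (m1)<|a 0<|a 0<|a 0<|a 0<|b) (a (m1)<|a (m1)<|a 0<|a 0<|a 1<|a 0<|a 0<|a 0<|b))<|d));
 (c (e (a (m1)<|a (m1)<|a (m1)<|a (m2)<|a (m2)<|a (m1)<|a (m1)<|a 0<|b) (a (m1)<|a 0<|a 1<|a 0<|a (m1)<|a 1<|a (m1)<|a 1<|b))<|c (e (a (m1)<|a (m1)<|a (m1)<|a (m2)<|a (m2)<|a (m1)<|a 0<|a 0<|b) (a (m1)<|a 0<|a 1<|a 0<|a (m1)<|a 0<|a 1<|a 0<|b))<|
 c (e (a (m1)<|a (m1)<|a (m1)<|a (m2)<|a (m1)<|a (m1)<|a (m1)<|a (m1)<|b) (a (m1)<|a 0<|a 1<|a (m1)<|a 1<|a 0<|a 0<|a (m1)<|b))<|c (e (a (m1)<|a (m1)<|a (m1)<|a (m2)<|a (m1)<|a (m1)<|a (m1)<|a 0<|b) (a (m1)<|a 0<|a 1<|a (m1)<|a 1<|a 0<|a (m1)<|a 1<|b))<|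
 c (e (a (m1)<|a (m1)<|a (m1)<|a (m2)<|a (m1)<|a (m1)<|a 0<|a 0<|b) (a (m1)<|a 0<|a 1<|a (m1)<|a 1<|a (m1)<|a 1<|a 0<|b))<|c (e (a (m1)<|a (m1)<|a (m1)<|a (m2)<|a (m1)<|a 0<|a 0<|a 0<|b) (a (m1)<|a 0<|a 1<|a (m1)<|a 0<|a 1<|a 0<|a 0<|b))<|
 c (e (a (m1)<|a (m1)<|a (m1)<|a (m1)<|a (m1)<|a (m1)<|a (m1)<|a (m1)<|b) (a (m1)<|a (m1)<|a 0<|a 1<|a 0<|a 0<|a 0<|a (m1)<|b))<|d))));
 (let d:=(let d:=(let d:=(let d:=(c (e (a (m1)<|a (m1)<|a (m1)<|a (m2)<|a (m2)<|a (m2)<|a (m2)<|a (m1)<|b) (a (m1)<|a 0<|a 1<|a 0<|a 0<|a 0<|a (m1)<|a 0<|b))<|c (e (a (m1)<|a (m1)<|a (m1)<|a (m2)<|a (m2)<|a (m2)<|a (m1)<|a (m1)<|b) (a (m1)<|a 0<|a 1<|a 0<|a 0<|a (m1)<|a 1<|a (m1)<|b))<|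
 c (e (a (m1)<|a (m1)<|a (m1)<|a (m2)<|a (m2)<|a (m2)<|a (m1)<|a 0<|b) (a (m1)<|a 0<|a 1<|a 0<|a 0<|a (m1)<|a 0<|a 1<|b))<|c (e (a (m1)<|a (m1)<|a (m1)<|a (m2)<|a (m2)<|a (m1)<|a (m1)<|a (m1)<|b) (a (m1)<|a 0<|a 1<|a 0<|a (m1)<|a 1<|a 0<|a (m1)<|b))<|
 d);
 (c (e (a (m1)<|a (m1)<|a (m2)<|a (m2)<|a (m1)<|a (m1)<|a (m1)<|a (m1)<|b) (a 0<|a 0<|a (m1)<|a 0<|a 1<|a 0<|a 0<|a (m1)<|b))<|c (e (a (m1)<|a (m1)<|a (m2)<|a (m2)<|a (m1)<|a (m1)<|a (m1)<|a 0<|b) (a 0<|a 0<|a (m1)<|a 0<|a 1<|a 0<|a (m1)<|a 1<|b))<|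
 c (e (a (m1)<|a (m1)<|a (m2)<|a (m2)<|a (m1)<|a (m1)<|a 0<|a 0<|b) (a 0<|a 0<|a (m1)<|a 0<|a 1<|a (m1)<|a 1<|a 0<|b))<|c (e (a (m1)<|a (m1)<|a (m2)<|a (m2)<|a (m1)<|a 0<|a 0<|a 0<|b) (a 0<|a 0<|a (m1)<|a 0<|a 0<|a 1<|a 0<|a 0<|b))<|
 d));
 (c (e (a (m1)<|a (m1)<|a (m2)<|a (m3)<|a (m2)<|a (m1)<|a 0<|a 0<|b) (a 0<|a 1<|a 0<|a (m1)<|a 0<|a 0<|a 1<|a 0<|b))<|
 c (e (a (m1)<|a (m1)<|a (m2)<|a (m2)<|a (m2)<|a (m2)<|a (m2)<|a (m1)<|b) (a 0<|a 0<|a (m1)<|a 1<|a 0<|a 0<|a (m1)<|a 0<|b))<|c (e (a (m1)<|a (m1)<|a (m2)<|a (m2)<|a (m2)<|a (m2)<|a (m1)<|a (m1)<|b) (a 0<|a 0<|a (m1)<|a 1<|a 0<|a (m1)<|a 1<|a (m1)<|b))<|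
 c (e (a (m1)<|a (m1)<|a (m2)<|a (m2)<|a (m2)<|a (m2)<|a (m1)<|a 0<|b) (a 0<|a 0<|a (m1)<|a 1<|a 0<|a (m1)<|a 0<|a 1<|b))<|c (e (a (m1)<|a (m1)<|a (m2)<|a (m2)<|a (m2)<|a (m1)<|a (m1)<|a (m1)<|b) (a 0<|a 0<|a (m1)<|a 1<|a (m1)<|a 1<|a 0<|a (m1)<|b))<|
 c (e (a (m1)<|a (m1)<|a (m2)<|a (m2)<|a (m2)<|a (m1)<|a (m1)<|a 0<|b) (a 0<|a 0<|a (m1)<|a 1<|a (m1)<|a 1<|a (m1)<|a 1<|b))<|c (e (a (m1)<|a (m1)<|a (m2)<|a (m2)<|a (m2)<|a (m1)<|a 0<|a 0<|b) (a 0<|a 0<|a (m1)<|a 1<|a (m1)<|a 0<|a 1<|a 0<|b))<|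
 d));
 (let d:=(let d:=(c (e (a (m1)<|a (m1)<|a (m2)<|a (m3)<|a (m2)<|a (m2)<|a (m1)<|a (m1)<|b) (a 0<|a 1<|a 0<|a (m1)<|a 1<|a (m1)<|a 1<|a (m1)<|b))<|
 c (e (a (m1)<|a (m1)<|a (m2)<|a (m3)<|a (m2)<|a (m2)<|a (m1)<|a 0<|b) (a 0<|a 1<|a 0<|a (m1)<|a 1<|a (m1)<|a 0<|a 1<|b))<|c (e (a (m1)<|a (m1)<|a (m2)<|a (m3)<|a (m2)<|a (m1)<|a (m1)<|a (m1)<|b) (a 0<|a 1<|a 0<|a (m1)<|a 0<|a 1<|a 0<|a (m1)<|b))<|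
 c (e (a (m1)<|a (m1)<|a (m2)<|a (m3)<|a (m2)<|a (m1)<|a (m1)<|a 0<|b) (a 0<|a 1<|a 0<|a (m1)<|a 0<|a 1<|a (m1)<|a 1<|b))<|d);
 (c (e (a (m1)<|a (m1)<|a (m2)<|a (m3)<|a (m3)<|a (m2)<|a (m2)<|a (m1)<|b) (a 0<|a 1<|a 0<|a 0<|a (m1)<|a 1<|a (m1)<|a 0<|b))<|
 c (e (a (m1)<|a (m1)<|a (m2)<|a (m3)<|a (m3)<|a (m2)<|a (m1)<|a (m1)<|b) (a 0<|a 1<|a 0<|a 0<|a (m1)<|a 0<|a 1<|a (m1)<|b))<|c (e (a (m1)<|a (m1)<|a (m2)<|a (m3)<|a (m3)<|a (m2)<|a (m1)<|a 0<|b) (a 0<|a 1<|a 0<|a 0<|a (m1)<|a 0<|a 0<|a 1<|b))<|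
 c (e (a (m1)<|a (m1)<|a (m2)<|a (m3)<|a (m2)<|a (m2)<|a (m2)<|a (m1)<|b) (a 0<|a 1<|a 0<|a (m1)<|a 1<|a 0<|a (m1)<|a 0<|b))<|d));
 (c (e (a (m1)<|a (m2)<|a (m2)<|a (m3)<|a (m2)<|a (m2)<|a (m2)<|a (m1)<|b) (a 0<|a (m1)<|a 0<|a 0<|a 1<|a 0<|a (m1)<|a 0<|b))<|c (e (a (m1)<|a (m2)<|a (m2)<|a (m3)<|a (m2)<|a (m2)<|a (m1)<|a (m1)<|b) (a 0<|a (m1)<|a 0<|a 0<|a 1<|a (m1)<|a 1<|a (m1)<|b))<|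
 c (e (a (m1)<|a (m2)<|a (m2)<|a (m3)<|a (m2)<|a (m2)<|a (m1)<|a 0<|b) (a 0<|a (m1)<|a 0<|a 0<|a 1<|a (m1)<|a 0<|a 1<|b))<|c (e (a (m1)<|a (m2)<|a (m2)<|a (m3)<|a (m2)<|a (m1)<|a (m1)<|a (m1)<|b) (a 0<|a (m1)<|a 0<|a 0<|a 0<|a 1<|a 0<|a (m1)<|b))<|
 c (e (a (m1)<|a (m2)<|a (m2)<|a (m3)<|a (m2)<|a (m1)<|a (m1)<|a 0<|b) (a 0<|a (m1)<|a 0<|a 0<|a 0<|a 1<|a (m1)<|a 1<|b))<|c (e (a (m1)<|a (m2)<|a (m2)<|a (m3)<|a (m2)<|a (m1)<|a 0<|a 0<|b) (a 0<|a (m1)<|a 0<|a 0<|a 0<|a 0<|a 1<|a 0<|b))<|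
 c (e (a (m1)<|a (m1)<|a (m2)<|a (m3)<|a (m3)<|a (m3)<|a (m2)<|a (m1)<|b) (a 0<|a 1<|a 0<|a 0<|a 0<|a (m1)<|a 0<|a 0<|b))<|d)));
 (let d:=(let d:=(let d:=(c (e (a (m1)<|a (m2)<|a (m2)<|a (m3)<|a (m3)<|a (m3)<|a (m2)<|a (m1)<|b) (a 0<|a (m1)<|a 0<|a 1<|a 0<|a (m1)<|a 0<|a 0<|b))<|c (e (a (m1)<|a (m2)<|a (m2)<|a (m3)<|a (m3)<|a (m2)<|a (m2)<|a (m1)<|b) (a 0<|a (m1)<|a 0<|a 1<|a (m1)<|a 1<|a (m1)<|a 0<|b))<|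
 c (e (a (m1)<|a (m2)<|a (m2)<|a (m3)<|a (m3)<|a (m2)<|a (m1)<|a (m1)<|b) (a 0<|a (m1)<|a 0<|a 1<|a (m1)<|a 0<|a 1<|a (m1)<|b))<|c (e (a (m1)<|a (m2)<|a (m2)<|a (m3)<|a (m3)<|a (m2)<|a (m1)<|a 0<|b) (a 0<|a (m1)<|a 0<|a 1<|a (m1)<|a 0<|a 0<|a 1<|b))<|
 d);
 (c (e (a (m1)<|a (m2)<|a (m2)<|a (m4)<|a (m3)<|a (m3)<|a (m2)<|a (m1)<|b) (a 0<|a 0<|a 1<|a (m1)<|a 1<|a (m1)<|a 0<|a 0<|b))<|c (e (a (m1)<|a (m2)<|a (m2)<|a (m4)<|a (m3)<|a (m2)<|a (m2)<|a (m1)<|b) (a 0<|a 0<|a 1<|a (m1)<|a 0<|a 1<|a (m1)<|a 0<|b))<|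
 c (e (a (m1)<|a (m2)<|a (m2)<|a (m4)<|a (m3)<|a (m2)<|a (m1)<|a (m1)<|b) (a 0<|a 0<|a 1<|a (m1)<|a 0<|a 0<|a 1<|a (m1)<|b))<|c (e (a (m1)<|a (m2)<|a (m2)<|a (m4)<|a (m3)<|a (m2)<|a (m1)<|a 0<|b) (a 0<|a 0<|a 1<|a (m1)<|a 0<|a 0<|a 0<|a 1<|b))<|
 d));
 (c (e (a (m1)<|a (m2)<|a (m3)<|a (m5)<|a (m4)<|a (m3)<|a (m2)<|a (m1)<|b) (a 1<|a 1<|a 0<|a (m1)<|a 0<|a 0<|a 0<|a 0<|b))<|
 c (e (a (m1)<|a (m2)<|a (m3)<|a (m4)<|a (m4)<|a (m3)<|a (m2)<|a (m1)<|b) (a 1<|a 0<|a (m1)<|a 1<|a (m1)<|a 0<|a 0<|a 0<|b))<|c (e (a (m1)<|a (m2)<|a (m3)<|a (m4)<|a (m3)<|a (m3)<|a (m2)<|a (m1)<|b) (a 1<|a 0<|a (m1)<|a 0<|a 1<|a (m1)<|a 0<|a 0<|b))<|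
 c (e (a (m1)<|a (m2)<|a (m3)<|a (m4)<|a (m3)<|a (m2)<|a (m2)<|a (m1)<|b) (a 1<|a 0<|a (m1)<|a 0<|a 0<|a 1<|a (m1)<|a 0<|b))<|c (e (a (m1)<|a (m2)<|a (m3)<|a (m4)<|a (m3)<|a (m2)<|a (m1)<|a (m1)<|b) (a 1<|a 0<|a (m1)<|a 0<|a 0<|a 0<|a 1<|a (m1)<|b))<|
 c (e (a (m1)<|a (m2)<|a (m3)<|a (m4)<|a (m3)<|a (m2)<|a (m1)<|a 0<|b) (a 1<|a 0<|a (m1)<|a 0<|a 0<|a 0<|a 0<|a 1<|b))<|c (e (a (m1)<|a (m2)<|a (m2)<|a (m4)<|a (m4)<|a (m3)<|a (m2)<|a (m1)<|b) (a 0<|a 0<|a 1<|a 0<|a (m1)<|a 0<|a 0<|a 0<|b))<|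
 d));
 (let d:=(let d:=(c (e (a (m2)<|a (m2)<|a (m3)<|a (m4)<|a (m3)<|a (m2)<|a (m2)<|a (m1)<|b) (a (m1)<|a 0<|a 0<|a 0<|a 0<|a 1<|a (m1)<|a 0<|b))<|
 c (e (a (m2)<|a (m2)<|a (m3)<|a (m4)<|a (m3)<|a (m2)<|a (m1)<|a (m1)<|b) (a (m1)<|a 0<|a 0<|a 0<|a 0<|a 0<|a 1<|a (m1)<|b))<|c (e (a (m2)<|a (m2)<|a (m3)<|a (m4)<|a (m3)<|a (m2)<|a (m1)<|a 0<|b) (a (m1)<|a 0<|a 0<|a 0<|a 0<|a 0<|a 0<|a 1<|b))<|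
 c (e (a (m1)<|a (m3)<|a (m3)<|a (m5)<|a (m4)<|a (m3)<|a (m2)<|a (m1)<|b) (a 1<|a (m1)<|a 0<|a 0<|a 0<|a 0<|a 0<|a 0<|b))<|d);
 (c (e (a (m2)<|a (m2)<|a (m4)<|a (m5)<|a (m4)<|a (m3)<|a (m2)<|a (m1)<|b) (a 0<|a 1<|a (m1)<|a 0<|a 0<|a 0<|a 0<|a 0<|b))<|
 c (e (a (m2)<|a (m2)<|a (m3)<|a (m5)<|a (m4)<|a (m3)<|a (m2)<|a (m1)<|b) (a (m1)<|a 1<|a 1<|a (m1)<|a 0<|a 0<|a 0<|a 0<|b))<|c (e (a (m2)<|a (m2)<|a (m3)<|a (m4)<|a (m4)<|a (m3)<|a (m2)<|a (m1)<|b) (a (m1)<|a 0<|a 0<|a 1<|a (m1)<|a 0<|a 0<|a 0<|b))<|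
 c (e (a (m2)<|a (m2)<|a (m3)<|a (m4)<|a (m3)<|a (m3)<|a (m2)<|a (m1)<|b) (a (m1)<|a 0<|a 0<|a 0<|a 1<|a (m1)<|a 0<|a 0<|b))<|d));
 (a (e (a (m2)<|a (m3)<|a (m4)<|a (m6)<|a (m5)<|a (m4)<|a (m3)<|a (m2)<|b) (a 0<|a 0<|a 0<|a 0<|a 0<|a 0<|a 0<|a (m1)<|b))<|a (e (a (m2)<|a (m3)<|a (m4)<|a (m6)<|a (m5)<|a (m4)<|a (m3)<|a (m1)<|b) (a 0<|a 0<|a 0<|a 0<|a 0<|a 0<|a (m1)<|a 1<|b))<|
 a (e (a (m2)<|a (m3)<|a (m4)<|a (m6)<|a (m5)<|a (m4)<|a (m2)<|a (m1)<|b) (a 0<|a 0<|a 0<|a 0<|a 0<|a (m1)<|a 1<|a 0<|b))<|a (e (a (m2)<|a (m3)<|a (m4)<|a (m6)<|a (m5)<|a (m3)<|a (m2)<|a (m1)<|b) (a 0<|a 0<|a 0<|a 0<|a (m1)<|a 1<|a 0<|a 0<|b))<|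
 a (e (a (m2)<|a (m3)<|a (m4)<|a (m6)<|a (m4)<|a (m3)<|a (m2)<|a (m1)<|b) (a 0<|a 0<|a 0<|a (m1)<|a 1<|a 0<|a 0<|a 0<|b))<|a (e (a (m2)<|a (m3)<|a (m4)<|a (m5)<|a (m4)<|a (m3)<|a (m2)<|a (m1)<|b) (a 0<|a (m1)<|a (m1)<|a 1<|a 0<|a 0<|a 0<|a 0<|b))<|
 a (e (a (m2)<|a (m3)<|a (m3)<|a (m5)<|a (m4)<|a (m3)<|a (m2)<|a (m1)<|b) (a (m1)<|a (m1)<|a 1<|a 0<|a 0<|a 0<|a 0<|a 0<|b))<|d)))))))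

end

theorem ok6 : Ok 6 chevE6 R6 := by decide +kernel

theorem ok7 : Ok 7 chevE7 R7 := by decide +kernel

theorem ok8 : Ok 8 chevE8 R8 := by decide +kernel

theorem cls6 : ∀ S : Finset (Fin 6), S = ∅ ∨ Wit 6 chevE6 S ∨ S = [0, 1, 2, 3, 4, 5].toFinset ∨ Two 6 chevE6 R6 S := by
  decide +kernel

theorem cls7 : ∀ S : Finset (Fin 7), S = ∅ ∨ Wit 7 chevE7 S ∨ S = [0, 1, 2, 3, 4, 5].toFinset ∨ Two 7 chevE7 R7 S := by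
  decide +kernel

theorem cls8 : ∀ S : Finset (Fin 8), S = ∅ ∨ Wit 8 chevE8 S ∨
    (S = [0, 1, 2, 3, 4, 5].toFinset ∨ S = [0, 1, 2, 3, 4, 5, 6, 7].toFinset) ∨ Two 8 chevE8 R8 S := by
  decide +kernel

private noncomputable def _root_.Cfsg.Agent.KO5d25de7.k4 : type_of% @Nat.decEq := @(fun x0 x1 => @Bool.rec.{1} @(fun x2 => (@Eq.{1} _ (@Nat.beq @x0 @x1) @x2) → @Decidable (@Eq.{1} _ @x0 @x1)) @(fun x2 => @Decidable.isFalse _ (@Nat.ne_of_beq_eq_false _ _ @x2)) @(fun x2 => @Decidable.isTrue _ (@Nat.eq_of_beq_eq_true _ _ @x2)) (@Nat.beq @x0 @x1) (@Eq.refl.{1} _ (@Nat.beq @x0 @x1)))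
private theorem _root_.Cfsg.Agent.KO5d25de7.e4 : @Nat.decEq = @_root_.Cfsg.Agent.KO5d25de7.k4 := by delta _root_.Cfsg.Agent.KO5d25de7.k4; rfl'
private noncomputable def _root_.Cfsg.Agent.KO5d25de7.k5 : type_of% @Int.decEq := @(fun x0 x1 => @Int.rec.{1} @(fun x2 => @Decidable (@Eq.{1} _ @x2 @x1)) @(fun x2 => @Int.rec.{1} @(fun x3 => @Decidable (@Eq.{1} _ (@Int.ofNat @x2) @x3)) @(fun x3 => @Decidable.rec.{1} _ @(fun x4 => @Decidable (@Eq.{1} _ (@Int.ofNat @x2) (@Int.ofNat @x3))) @(fun x4 => @Decidable.isFalse _ (@Int.decEq._proof_2 @x2 @x3 @x4)) @(fun x4 => @Decidable.isTrue _ (@Int.decEq._proof_1 @x2 @x3 @x4)) (@Cfsg.Agent.KO5d25de7.k4 @x2 @x3)) @(fun x3 => @Decidable.isFalse _ (@Int.decEq._proof_3 @x2 @x3)) @x1) @(fun x2 => @Int.rec.{1} @(fun x3 => @Decidable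 (@Eq.{1} _ (@Int.negSucc @x2) @x3)) @(fun x3 => @Decidable.isFalse _ (@Int.decEq._proof_4 @x2 @x3)) @(fun x3 => @Decidable.rec.{1} _ @(fun x4 => @Decidable (@Eq.{1} _ (@Int.negSucc @x2) (@Int.negSucc @x3))) @(fun x4 => @Decidable.isFalse _ (@Int.decEq._proof_6 @x2 @x3 @x4)) @(fun x4 => @Decidable.isTrue _ (@Int.decEq._proof_5 @x2 @x3 @x4)) (@Cfsg.Agent.KO5d25de7.k4 @x2 @x3)) @x1) @x0)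
private theorem _root_.Cfsg.Agent.KO5d25de7.e5 : @Int.decEq = @_root_.Cfsg.Agent.KO5d25de7.k5 := by delta _root_.Cfsg.Agent.KO5d25de7.k5; rewrite [← Cfsg.Agent.KO5d25de7.e4]; rfl'
private noncomputable def _root_.Cfsg.Agent.KO5d25de7.k6 : type_of% @Int.mul := @(fun x0 x1 => @Int.rec.{1} @(fun x2 => ℤ) @(fun x2 => @Int.rec.{1} @(fun x3 => ℤ) @(fun x3 => @Int.ofNat (@Nat.mul @x2 @x3)) @(fun x3 => @Nat.rec.{1} @(fun x4 => ℤ) (@Int.ofNat (nat_lit 0)) @(fun x4 x5 => @Int.negSucc @x4) (@Nat.mul @x2 (@Nat.succ @x3))) @x1) @(fun x2 => @Int.rec.{1} @(fun x3 => ℤ) @(fun x3 => @Nat.rec.{1} @(fun x4 => ℤ) (@Int.ofNat (nat_lit 0)) @(fun x4 x5 => @Int.negSucc @x4) (@Nat.mul (@Nat.succ @x2) @x3)) @(fun x3 => @Int.ofNat (@Nat.mul (@Nat.succ @x2) (@Nat.succ @x3))) @x1) @x0)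
private theorem _root_.Cfsg.Agent.KO5d25de7.e6 : @Int.mul = @_root_.Cfsg.Agent.KO5d25de7.k6 := by delta _root_.Cfsg.Agent.KO5d25de7.k6; rfl'
private theorem _root_.Cfsg.Agent.KO5d25de7.e7.{ku, kv} {α : Type kv} {M : List α → Sort ku} (φ : ∀ l, M l) {z : M List.nil} {s : ∀ a l, M l → M (List.cons a l)} (h0 : φ List.nil = z) (hs : ∀ a l, φ (List.cons a l) = s a l (φ l)) (l : List α) : φ l = @List.rec α M z s l := List.rec h0 (fun a l ih => (hs a l).trans (congrArg (s a l) ih)) l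
private noncomputable def _root_.Cfsg.Agent.KO5d25de7.k24.{ku0, ku1} : type_of% @List.foldr.{ku0, ku1} := @(fun x0 x1 x2 x3 x4 => @List.rec.{(ku1+1), ku0} @x0 @(fun x5 => @x1) @x3 @(fun x5 x6 x7 => @x2 @x5 @x7) @x4)
private theorem _root_.Cfsg.Agent.KO5d25de7.e24.{ku0, ku1} : @List.foldr.{ku0, ku1} = @_root_.Cfsg.Agent.KO5d25de7.k24.{ku0, ku1} := by delta _root_.Cfsg.Agent.KO5d25de7.k24; funext a0 a1 a2 a3 a4; refine (_root_.Cfsg.Agent.KO5d25de7.e7 (fun a4 => @List.foldr.{ku0, ku1} a0 a1 a2 a3 a4) ?_ (fun c0 c1 => ?_) a4 :) <;> (rfl')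
private noncomputable def _root_.Cfsg.Agent.KO5d25de7.k30 : type_of% @Int.add := @(fun x0 x1 => @Int.rec.{1} @(fun x2 => ℤ) @(fun x2 => @Int.rec.{1} @(fun x3 => ℤ) @(fun x3 => @Int.ofNat (@Nat.add @x2 @x3)) @(fun x3 => @Nat.rec.{1} @(fun x4 => ℤ) (@Int.ofNat (@Nat.sub @x2 (@Nat.succ @x3))) @(fun x4 x5 => @Int.negSucc @x4) (@Nat.sub (@Nat.succ @x3) @x2)) @x1) @(fun x2 => @Int.rec.{1} @(fun x3 => ℤ) @(fun x3 => @Nat.rec.{1} @(fun x4 => ℤ) (@Int.ofNat (@Nat.sub @x3 (@Nat.succ @x2))) @(fun x4 x5 => @Int.negSucc @x4) (@Nat.sub (@Nat.succ @x2) @x3)) @(fun x3 => @Int.negSucc (@Nat.succ (@Nat.add @x2 @x3))) @x1) @x0)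
private theorem _root_.Cfsg.Agent.KO5d25de7.e30 : @Int.add = @_root_.Cfsg.Agent.KO5d25de7.k30 := by delta _root_.Cfsg.Agent.KO5d25de7.k30; rfl'
private noncomputable def _root_.Cfsg.Agent.KO5d25de7.k43.{ku0} : type_of% @List.get?Internal.{ku0} := @(fun x0 x1 x2 => @List.rec.{(ku0+1), ku0} @x0 @(fun x3 => ℕ → @Option.{ku0} @x0) @(fun x3 => @Option.none.{ku0} _) @(fun x3 x4 x5 x6 => @Nat.rec.{(ku0+1)} @(fun x7 => @Option.{ku0} @x0) (@Option.some.{ku0} _ @x3) @(fun x7 x8 => @x5 @x7) @x6) @x1 @x2)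
private theorem _root_.Cfsg.Agent.KO5d25de7.e43.{ku0} : @List.get?Internal.{ku0} = @_root_.Cfsg.Agent.KO5d25de7.k43.{ku0} := by delta _root_.Cfsg.Agent.KO5d25de7.k43; funext a0 a1 a2; refine (congrFun (_root_.Cfsg.Agent.KO5d25de7.e7 (fun a1 a2 => @List.get?Internal.{ku0} a0 a1 a2) ?_ (fun c0 c1 => ?_) a1) a2 :) <;> [(funext b0; (rfl')); (funext b0; (cases b0 with | @zero  => (rfl') | @succ b0_0 => (rfl')))]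
private noncomputable def _root_.Cfsg.Agent.KO5d25de7.k44 : (by first | exact type_of% @Cfsg.Agent.KM.Tor.Lc.v | exact Unit : Sort _) := by first | (refine @Subtype.val _ (fun g => @Cfsg.Agent.KM.Tor.Lc.v = @g) (@Subtype.mk _ _ (@(fun x0 x1 x2 => @Option.rec.{1, 0} ℤ @(fun x3 => ℤ) (@Int.ofNat (nat_lit 0)) @(fun x3 => @x3) (@Cfsg.Agent.KO5d25de7.k43.{0} _ (@Prod.snd.{0, 0} _ _ @x1) (@Fin.val _ @x2)))) ?_); rewrite [← Cfsg.Agent.KO5d25de7.e43.{0}]; rfl') | exact @Cfsg.Agent.KM.Tor.Lc.v | exact ()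
private theorem _root_.Cfsg.Agent.KO5d25de7.e44 : (by first | exact @Cfsg.Agent.KM.Tor.Lc.v = @_root_.Cfsg.Agent.KO5d25de7.k44 | exact True : Prop) := by first | (delta _root_.Cfsg.Agent.KO5d25de7.k44; exact @Subtype.property _ (fun g => @Cfsg.Agent.KM.Tor.Lc.v = @g) _) | rfl | trivial
private noncomputable def _root_.Cfsg.Agent.KO5d25de7.k65.{ku0} : type_of% @List.all.{ku0} := @(fun x0 x1 x2 => @List.rec.{(ku0+1), ku0} @x0 @(fun x3 => (@x0 → @Bool) → @Bool) @(fun x3 => @Bool.true) @(fun x3 x4 x5 x6 => @Bool.rec.{1} @(fun x7 => @Bool) @Bool.false (@x5 @x6) (@x6 @x3)) @x1 @x2)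
private theorem _root_.Cfsg.Agent.KO5d25de7.e65.{ku0} : @List.all.{ku0} = @_root_.Cfsg.Agent.KO5d25de7.k65.{ku0} := by delta _root_.Cfsg.Agent.KO5d25de7.k65; funext a0 a1 a2; refine (congrFun (_root_.Cfsg.Agent.KO5d25de7.e7 (fun a1 a2 => @List.all.{ku0} a0 a1 a2) ?_ (fun c0 c1 => ?_) a1) a2 :) <;> (rfl')
private noncomputable def _root_.Cfsg.Agent.KO5d25de7.k66.{ku0} : type_of% @List.any.{ku0} := @(fun x0 x1 x2 => @List.rec.{(ku0+1), ku0} @x0 @(fun x3 => (@x0 → @Bool) → @Bool) @(fun x3 => @Bool.false) @(fun x3 x4 x5 x6 => @Bool.rec.{1} @(fun x7 => @Bool) (@x5 @x6) @Bool.true (@x6 @x3)) @x1 @x2)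
private theorem _root_.Cfsg.Agent.KO5d25de7.e66.{ku0} : @List.any.{ku0} = @_root_.Cfsg.Agent.KO5d25de7.k66.{ku0} := by delta _root_.Cfsg.Agent.KO5d25de7.k66; funext a0 a1 a2; refine (congrFun (_root_.Cfsg.Agent.KO5d25de7.e7 (fun a1 a2 => @List.any.{ku0} a0 a1 a2) ?_ (fun c0 c1 => ?_) a1) a2 :) <;> (rfl')
private noncomputable def _root_.Cfsg.Agent.KO5d25de7.k67.{ku0} : type_of% @List.filter.{ku0} := @(fun x0 x1 x2 => @List.rec.{(ku0+1), ku0} @x0 @(fun x3 => @List.{ku0} @x0) [] @(fun x3 x4 x5 => @Bool.rec.{(ku0+1)} @(fun x6 => @List.{ku0} @x0) @x5 (@x3 :: @x5) (@x1 @x3)) @x2)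
private theorem _root_.Cfsg.Agent.KO5d25de7.e67.{ku0} : @List.filter.{ku0} = @_root_.Cfsg.Agent.KO5d25de7.k67.{ku0} := by delta _root_.Cfsg.Agent.KO5d25de7.k67; funext a0 a1 a2; refine (_root_.Cfsg.Agent.KO5d25de7.e7 (fun a2 => @List.filter.{ku0} a0 a1 a2) ?_ (fun c0 c1 => ?_) a2 :) <;> (rfl')
private noncomputable def _root_.Cfsg.Agent.KO5d25de7.k68 : (by first | exact type_of% @Cfsg.Agent.KM.Tor.Lc.u | exact Unit : Sort _) := by first | (refine @Subtype.val _ (fun g => @Cfsg.Agent.KM.Tor.Lc.u = @g) (@Subtype.mk _ _ (@(fun x0 x1 x2 => @Option.rec.{1, 0} ℤ @(fun x3 => ℤ) (@Int.ofNat (nat_lit 0)) @(fun x3 => @x3) (@Cfsg.Agent.KO5d25de7.k43.{0} _ (@Prod.fst.{0, 0} _ _ @x1) (@Fin.val _ @x2)))) ?_); rewrite [← Cfsg.Agent.KO5d25de7.e43.{0}]; rfl') | exact @Cfsg.Agent.KM.Tor.Lc.u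 | exact ()
private theorem _root_.Cfsg.Agent.KO5d25de7.e68 : (by first | exact @Cfsg.Agent.KM.Tor.Lc.u = @_root_.Cfsg.Agent.KO5d25de7.k68 | exact True : Prop) := by first | (delta _root_.Cfsg.Agent.KO5d25de7.k68; exact @Subtype.property _ (fun g => @Cfsg.Agent.KM.Tor.Lc.u = @g) _) | rfl | trivial
private noncomputable def _root_.Cfsg.Agent.KO5d25de7.k69 : (by first | exact type_of% @Cfsg.Agent.KM.Tor.Lc.z | exact Unit : Sort _) := by first | (refine @Subtype.val _ (fun g => @Cfsg.Agent.KM.Tor.Lc.z = @g) (@Subtype.mk _ _ (@(fun x0 x1 x2 => @Cfsg.Agent.KO5d25de7.k65.{0} _ @x1 @(fun x3 => @Decidable.rec.{1} _ @(fun x4 => @Bool) @(fun x4 => @Bool.false) @(fun x4 => @Bool.true) (@Cfsg.Agent.KO5d25de7.k5 (@Cfsg.Agent.KO5d25de7.k68 _ @x2 @x3) (@Int.ofNat (nat_lit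 0)))))) ?_); rewrite [← Cfsg.Agent.KO5d25de7.e68, ← Cfsg.Agent.KO5d25de7.e5, ← Cfsg.Agent.KO5d25de7.e65.{0}]; (try delta Cfsg.Agent.KM.Tor.Lc.z); (try generalize @Cfsg.Agent.KM.Tor.Lc.u = g0); rfl') | exact @Cfsg.Agent.KM.Tor.Lc.z | exact ()
private theorem _root_.Cfsg.Agent.KO5d25de7.e69 : (by first | exact @Cfsg.Agent.KM.Tor.Lc.z = @_root_.Cfsg.Agent.KO5d25de7.k69 | exact True : Prop) := by first | (delta _root_.Cfsg.Agent.KO5d25de7.k69; exact @Subtype.property _ (fun g => @Cfsg.Agent.KM.Tor.Lc.z = @g) _) | rfl | trivial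
private noncomputable def _root_.Cfsg.Agent.KO5d25de7.k71.{ku0, ku1, ku2} : type_of% @List.zipWith.{ku0, ku1, ku2} := @(fun x0 x1 x2 x3 x4 x5 => @List.rec.{(max (ku1+1) (ku2+1)), ku0} @x0 @(fun x6 => (@List.{ku1} @x1) → @List.{ku2} @x2) @(fun x6 => []) @(fun x6 x7 x8 x9 => @List.rec.{(ku2+1), ku1} @x1 @(fun x10 => @List.{ku2} @x2) [] @(fun x10 x11 x12 => (@x3 @x6 @x10) :: (@x8 @x11)) @x9) @x4 @x5)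
private theorem _root_.Cfsg.Agent.KO5d25de7.e71.{ku0, ku1, ku2} : @List.zipWith.{ku0, ku1, ku2} = @_root_.Cfsg.Agent.KO5d25de7.k71.{ku0, ku1, ku2} := by delta _root_.Cfsg.Agent.KO5d25de7.k71; funext a0 a1 a2 a3 a4 a5; refine (congrFun (_root_.Cfsg.Agent.KO5d25de7.e7 (fun a4 a5 => @List.zipWith.{ku0, ku1, ku2} a0 a1 a2 a3 a4 a5) ?_ (fun c0 c1 => ?_) a4) a5 :) <;> [(funext b0; (rfl')); (funext b0; (cases b0 with | @nil  => (rfl') | @cons b0_0 b0_1 => (rfl')))]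
private noncomputable def _root_.Cfsg.Agent.KO5d25de7.k72 : (by first | exact type_of% @Cfsg.Agent.KM.Tor.Lc.B | exact Unit : Sort _) := by first | (refine @Subtype.val _ (fun g => @Cfsg.Agent.KM.Tor.Lc.B = @g) (@Subtype.mk _ _ (@(fun x0 x1 => @Cfsg.Agent.KO5d25de7.k24.{0, 0} _ _ @(fun x2 x3 => @Cfsg.Agent.KO5d25de7.k30 @x2 @x3) (@Int.ofNat (nat_lit 0)) (@Cfsg.Agent.KO5d25de7.k71.{0, 0, 0} _ _ _ @(fun x2 x3 => @Cfsg.Agent.KO5d25de7.k6 @x2 @x3) (@Prod.fst.{0, 0} _ _ @x0) (@Prod.snd.{0, 0} _ _ @x1)))) ?_); rewrite [← Cfsg.Agent.KO5d25de7.e6, ← Cfsg.Agent.KO5d25de7.e71.{0, 0, 0}, ← Cfsg.Agent.KO5d25de7.e30, ← Cfsg.Agent.KO5d25de7.e24.{0, 0}]; rfl') | exact @Cfsg.Agent.KM.Tor.Lc.B | exact ()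
private theorem _root_.Cfsg.Agent.KO5d25de7.e72 : (by first | exact @Cfsg.Agent.KM.Tor.Lc.B = @_root_.Cfsg.Agent.KO5d25de7.k72 | exact True : Prop) := by first | (delta _root_.Cfsg.Agent.KO5d25de7.k72; exact @Subtype.property _ (fun g => @Cfsg.Agent.KM.Tor.Lc.B = @g) _) | rfl | trivial
private noncomputable def _root_.Cfsg.Agent.KO5d25de7.k73 : (by first | exact type_of% @Cfsg.Agent.KM.Tor.Lc.d1 | exact Unit : Sort _) := by first | (refine @Subtype.val _ (fun g => @Cfsg.Agent.KM.Tor.Lc.d1 = @g) (@Subtype.mk _ _ (@(fun x0 x1 x2 => @Cfsg.Agent.KO5d25de7.k65.{0} _ @x1 @(fun x3 => @Decidable.rec.{1} _ @(fun x4 => @Bool) @(fun x4 => @Bool.false) @(fun x4 => @Bool.true) (@Int.rec.{1} @(fun x4 => @Decidable (@Int.NonNeg @x4)) @(fun x4 => @Decidable.isTrue _ (@Int.NonNeg.mk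 @x4)) @(fun x4 => @Decidable.isFalse _ (@Int.decNonneg._proof_1 @x4)) (@Int.add (@Cfsg.Agent.KO5d25de7.k44 _ @x2 @x3) (@Int.ofNat (nat_lit 0))))))) ?_); rewrite [← Cfsg.Agent.KO5d25de7.e44, ← Cfsg.Agent.KO5d25de7.e65.{0}]; (try delta Cfsg.Agent.KM.Tor.Lc.d1); (try generalize @Cfsg.Agent.KM.Tor.Lc.v = g0); rfl') | exact @Cfsg.Agent.KM.Tor.Lc.d1 | exact ()
private theorem _root_.Cfsg.Agent.KO5d25de7.e73 : (by first | exact @Cfsg.Agent.KM.Tor.Lc.d1 = @_root_.Cfsg.Agent.KO5d25de7.k73 | exact True : Prop) := by first | (delta _root_.Cfsg.Agent.KO5d25de7.k73; exact @Subtype.property _ (fun g => @Cfsg.Agent.KM.Tor.Lc.d1 = @g) _) | rfl | trivial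
private noncomputable def _root_.Cfsg.Agent.KO5d25de7.k74 : (by first | exact type_of% @Cfsg.Agent.KM.Tor.Lc.t4 | exact Unit : Sort _) := by first | (refine @Subtype.val _ (fun g => @Cfsg.Agent.KM.Tor.Lc.t4 = @g) (@Subtype.mk _ _ (@(fun x0 x1 x2 x3 => @Cfsg.Agent.KO5d25de7.k65.{0} _ @x3 @(fun x4 => @Bool.rec.{1} @(fun x5 => @Bool) (@Cfsg.Agent.KO5d25de7.k65.{0} _ @x3 @(fun x5 => @Bool.rec.{1} @(fun x6 => @Bool) (@Cfsg.Agent.KO5d25de7.k66.{0} _ (@Cfsg.Agent.KO5d25de7.k67.{0} _ (@Cfsg.Agent.KO5d25de7.k69 _ @x2) @x3) @(fun x6 => @Bool.rec.{1} @(fun x7 => @Bool) @Bool.false (@Bool.rec.{1} @(fun x7 => @Bool) @Bool.true @Bool.false (@Decidable.rec.{1} _ @(fun x7 => @Bool) @(fun x7 => @Bool.false) @(fun x7 => @Bool.true) (@Cfsg.Agent.KO5d25de7.k5 (@Cfsg.Agent.KO5d25de7.k72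 @x5 @x6) (@Int.ofNat (nat_lit 0))))) (@Bool.rec.{1} @(fun x7 => @Bool) @Bool.true @Bool.false (@Decidable.rec.{1} _ @(fun x7 => @Bool) @(fun x7 => @Bool.false) @(fun x7 => @Bool.true) (@Cfsg.Agent.KO5d25de7.k5 (@Cfsg.Agent.KO5d25de7.k72 @x4 @x6) (@Int.ofNat (nat_lit 0))))))) @Bool.true (@Bool.rec.{1} @(fun x6 => @Bool) @Bool.true @Bool.false (@Cfsg.Agent.KO5d25de7.k69 _ @x2 @x5)))) @Bool.true (@Bool.rec.{1} @(fun x5 => @Bool) @Bool.true @Bool.false (@Bool.rec.{1} @(fun x5 => @Bool) @Bool.false (@Cfsg.Agent.KO5d25de7.k73 _ @x1 @x4) (@Cfsg.Agent.KO5d25de7.k69 _ @x2 @x4)))))) ?_); rewrite [← Cfsg.Agent.KO5d25de7.e73, ← Cfsg.Agent.KO5d25de7.e72, ← Cfsg.Agent.KO5d25de7.e5, ← Cfsg.Agent.KO5d25de7.e69, ← Cfsg.Agent.KO5d25de7.e67.{0}, ← Cfsg.Agent.KO5d25de7.e66.{0},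 ← Cfsg.Agent.KO5d25de7.e65.{0}]; (try delta Cfsg.Agent.KM.Tor.Lc.t4 Cfsg.Agent.KM.Tor.Lc.al); (try generalize @Cfsg.Agent.KM.Tor.Lc.z = g0); (try generalize @Cfsg.Agent.KM.Tor.Lc.B = g1); (try generalize @Cfsg.Agent.KM.Tor.Lc.d1 = g2); rfl') | exact @Cfsg.Agent.KM.Tor.Lc.t4 | exact ()
private theorem _root_.Cfsg.Agent.KO5d25de7.e74 : (by first | exact @Cfsg.Agent.KM.Tor.Lc.t4 = @_root_.Cfsg.Agent.KO5d25de7.k74 | exact True : Prop) := by first | (delta _root_.Cfsg.Agent.KO5d25de7.k74; exact @Subtype.property _ (fun g => @Cfsg.Agent.KM.Tor.Lc.t4 = @g) _) | rfl | trivial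

theorem core6 : Core (n := 6) [0, 1, 2, 3, 4, 5] [] R6 :=
  core_of _ _ _ (by decide) (by decide +kernel) (by decide +kernel) (by (first | (rewrite [Cfsg.Agent.KO5d25de7.e74]; decide +kernel) | decide +kernel)) (by decide +kernel)

private noncomputable def _root_.Cfsg.Agent.KO5d25de7.k21.{ku0, ku1} : type_of% @List.map.{ku0, ku1} := @(fun x0 x1 x2 x3 => @List.rec.{(ku1+1), ku0} @x0 @(fun x4 => @List.{ku1} @x1) [] @(fun x4 x5 x6 => (@x2 @x4) :: @x6) @x3)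
private theorem _root_.Cfsg.Agent.KO5d25de7.e21.{ku0, ku1} : @List.map.{ku0, ku1} = @_root_.Cfsg.Agent.KO5d25de7.k21.{ku0, ku1} := by delta _root_.Cfsg.Agent.KO5d25de7.k21; funext a0 a1 a2 a3; refine (_root_.Cfsg.Agent.KO5d25de7.e7 (fun a3 => @List.map.{ku0, ku1} a0 a1 a2 a3) ?_ (fun c0 c1 => ?_) a3 :) <;> (rfl')
private noncomputable def _root_.Cfsg.Agent.KO5d25de7.k75 : (by first | exact type_of% @Cfsg.Agent.KM.Tor.Lc.cl | exact Unit : Sort _) := by first | (refine @Subtype.val _ (fun g => @Cfsg.Agent.KM.Tor.Lc.cl = @g) (@Subtype.mk _ _ (@(fun x0 x1 x2 => @Cfsg.Agent.KO5d25de7.k21.{0, 0} _ _ (@Cfsg.Agent.KO5d25de7.k68 _ @x2) @x1)) ?_); rewrite [← Cfsg.Agent.KO5d25de7.e68, ← Cfsg.Agent.KO5d25de7.e21.{0, 0}]; (try delta Cfsg.Agent.KM.Tor.Lc.cl); (try generalize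 @Cfsg.Agent.KM.Tor.Lc.u = g0); rfl') | exact @Cfsg.Agent.KM.Tor.Lc.cl | exact ()
private theorem _root_.Cfsg.Agent.KO5d25de7.e75 : (by first | exact @Cfsg.Agent.KM.Tor.Lc.cl = @_root_.Cfsg.Agent.KO5d25de7.k75 | exact True : Prop) := by first | (delta _root_.Cfsg.Agent.KO5d25de7.k75; exact @Subtype.property _ (fun g => @Cfsg.Agent.KM.Tor.Lc.cl = @g) _) | rfl | trivial
private noncomputable def _root_.Cfsg.Agent.KO5d25de7.k76 : (by first | exact type_of% @Cfsg.Agent.KM.Tor.Lc.cd | exact Unit : Sort _) := by first | (refine @Subtype.val _ (fun g => @Cfsg.Agent.KM.Tor.Lc.cd = @g) (@Subtype.mk _ _ (@(fun x0 x1 x2 => @Cfsg.Agent.KO5d25de7.k24.{0, 0} _ _ @(fun x3 x4 => @Nat.add (@Nat.mul @x4 (nat_lit 16)) (@Int.rec.{1} @(fun x5 => ℕ) @(fun x5 => @x5) @(fun x5 => nat_lit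 0) (@Cfsg.Agent.KO5d25de7.k30 @x3 (@Int.ofNat (nat_lit 8))))) (nat_lit 0) (@Cfsg.Agent.KO5d25de7.k75 _ @x1 @x2))) ?_); rewrite [← Cfsg.Agent.KO5d25de7.e75, ← Cfsg.Agent.KO5d25de7.e30, ← Cfsg.Agent.KO5d25de7.e24.{0, 0}]; (try delta Cfsg.Agent.KM.Tor.Lc.cd); (try generalize @Cfsg.Agent.KM.Tor.Lc.cl = g0); rfl') | exact @Cfsg.Agent.KM.Tor.Lc.cd | exact ()
private theorem _root_.Cfsg.Agent.KO5d25de7.e76 : (by first | exact @Cfsg.Agent.KM.Tor.Lc.cd = @_root_.Cfsg.Agent.KO5d25de7.k76 | exact True : Prop) := by first | (delta _root_.Cfsg.Agent.KO5d25de7.k76; exact @Subtype.property _ (fun g => @Cfsg.Agent.KM.Tor.Lc.cd = @g) _) | rfl | trivial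
private noncomputable def _root_.Cfsg.Agent.KO5d25de7.k78.{ku0} : type_of% @List.beq.{ku0} := @(fun x0 x1 x2 x3 => @List.rec.{(ku0+1), ku0} @x0 @(fun x4 => (@List.{ku0} @x0) → @Bool) @(fun x4 => @List.rec.{1, ku0} @x0 @(fun x5 => @Bool) @Bool.true @(fun x5 x6 x7 => @Bool.false) @x4) @(fun x4 x5 x6 x7 => @List.rec.{1, ku0} @x0 @(fun x8 => @Bool) @Bool.false @(fun x8 x9 x10 => @Bool.rec.{1} @(fun x11 => @Bool) @Bool.false (@x6 @x9) (@BEq.beq.{ku0} _ @x1 @x4 @x8)) @x7) @x2 @x3)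
private theorem _root_.Cfsg.Agent.KO5d25de7.e78.{ku0} : @List.beq.{ku0} = @_root_.Cfsg.Agent.KO5d25de7.k78.{ku0} := by delta _root_.Cfsg.Agent.KO5d25de7.k78; funext a0 a1 a2 a3; refine (congrFun (_root_.Cfsg.Agent.KO5d25de7.e7 (fun a2 a3 => @List.beq.{ku0} a0 a1 a2 a3) ?_ (fun c0 c1 => ?_) a2) a3 :) <;> [(funext b0; (cases b0 with | @nil  => (rfl') | @cons b0_0 b0_1 => (rfl'))); (funext b0; (cases b0 with | @nil  => (rfl') | @cons b0_0 b0_1 => (rfl')))]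
private noncomputable def _root_.Cfsg.Agent.KO5d25de7.k79 : (by first | exact type_of% @Cfsg.Agent.KM.Tor.Lc.sm | exact Unit : Sort _) := by first | (refine @Subtype.val _ (fun g => @Cfsg.Agent.KM.Tor.Lc.sm = @g) (@Subtype.mk _ _ (@(fun x0 x1 x2 x3 => @Cfsg.Agent.KO5d25de7.k78.{0} _ (@BEq.mk.{0} _ @(fun x4 x5 => @Decidable.rec.{1} _ @(fun x6 => @Bool) @(fun x6 => @Bool.false) @(fun x6 => @Bool.true) (@Cfsg.Agent.KO5d25de7.k5 @x4 @x5))) (@Cfsg.Agent.KO5d25de7.k75 _ @x1 @x2) (@Cfsg.Agent.KO5d25de7.k75 _ @x1 @x3))) ?_); rewrite [← Cfsg.Agent.KO5d25de7.e75, ← Cfsg.Agent.KO5d25de7.e5, ← Cfsg.Agent.KO5d25de7.e78.{0}]; (try delta Cfsg.Agent.KM.Tor.Lc.sm); (try generalize @Cfsg.Agent.KM.Tor.Lc.cl = g0); rfl') | exact @Cfsg.Agent.KM.Tor.Lc.sm | exact ()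
private theorem _root_.Cfsg.Agent.KO5d25de7.e79 : (by first | exact @Cfsg.Agent.KM.Tor.Lc.sm = @_root_.Cfsg.Agent.KO5d25de7.k79 | exact True : Prop) := by first | (delta _root_.Cfsg.Agent.KO5d25de7.k79; exact @Subtype.property _ (fun g => @Cfsg.Agent.KM.Tor.Lc.sm = @g) _) | rfl | trivial
private noncomputable def _root_.Cfsg.Agent.KO5d25de7.k80 : (by first | exact type_of% @Cfsg.Agent.KM.Tor.Lc.alS | exact Unit : Sort _) := by first | (refine @Subtype.val _ (fun g => @Cfsg.Agent.KM.Tor.Lc.alS = @g) (@Subtype.mk _ _ (@(fun x0 x1 x2 x3 x4 x5 => @Nat.rec.{1} @(fun x6 => @Bool) (@Cfsg.Agent.KO5d25de7.k65.{0} _ (@Cfsg.Agent.KO5d25de7.k67.{0} _ @(fun x6 => @Nat.beq (@Cfsg.Agent.KO5d25de7.k76 _ @x1 @x6) (nat_lit 0)) @x2) @(fun x6 => @Bool.rec.{1} @(fun x7 => @Bool)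 (@x5 @x6) @Bool.true (@Bool.rec.{1} @(fun x7 => @Bool) @Bool.true @Bool.false (@Bool.rec.{1} @(fun x7 => @Bool) @Bool.false (@x4 @x6) (@Cfsg.Agent.KO5d25de7.k79 _ @x1 @x6 @x3))))) @(fun x6 x7 => @Cfsg.Agent.KO5d25de7.k65.{0} _ (@Cfsg.Agent.KO5d25de7.k67.{0} _ @(fun x8 => @Nat.beq (@Cfsg.Agent.KO5d25de7.k76 _ @x1 @x8) (@Nat.succ @x6)) @x2) @(fun x8 => @Bool.rec.{1} @(fun x9 => @Bool) (@x5 @x8) @Bool.true (@Bool.rec.{1} @(fun x9 => @Bool) @Bool.true @Bool.false (@Bool.rec.{1} @(fun x9 => @Bool) @Bool.false (@x4 @x8) (@Cfsg.Agent.KO5d25de7.k79 _ @x1 @x8 @x3))))) (@Cfsg.Agent.KO5d25de7.k76 _ @x1 @x3))) ?_); rewrite [← Cfsg.Agent.KO5d25de7.e79, ← Cfsg.Agent.KO5d25de7.e76, ← Cfsg.Agent.KO5d25de7.e67.{0}, ← Cfsg.Agent.KO5d25de7.e65.{0}]; (try delta Cfsg.Agent.KM.Tor.Lc.alS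 Cfsg.Agent.KM.Tor.Lc.al); (try generalize @Cfsg.Agent.KM.Tor.Lc.cd = g0); (try generalize @Cfsg.Agent.KM.Tor.Lc.sm = g1); rfl') | exact @Cfsg.Agent.KM.Tor.Lc.alS | exact ()
private theorem _root_.Cfsg.Agent.KO5d25de7.e80 : (by first | exact @Cfsg.Agent.KM.Tor.Lc.alS = @_root_.Cfsg.Agent.KO5d25de7.k80 | exact True : Prop) := by first | (delta _root_.Cfsg.Agent.KO5d25de7.k80; exact @Subtype.property _ (fun g => @Cfsg.Agent.KM.Tor.Lc.alS = @g) _) | rfl | trivial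
private noncomputable def _root_.Cfsg.Agent.KO5d25de7.k81 : (by first | exact type_of% @Cfsg.Agent.KM.Tor.Lc.d2 | exact Unit : Sort _) := by first | (refine @Subtype.val _ (fun g => @Cfsg.Agent.KM.Tor.Lc.d2 = @g) (@Subtype.mk _ _ (@(fun x0 x1 x2 x3 => @Cfsg.Agent.KO5d25de7.k65.{0} _ @x1 @(fun x4 => @Bool.rec.{1} @(fun x5 => @Bool) (@Decidable.rec.{1} _ @(fun x5 => @Bool) @(fun x5 => @Bool.false) @(fun x5 => @Bool.true) (@Int.rec.{1} @(fun x5 => @Decidable (@Int.NonNeg @x5)) @(fun x5 => @Decidable.isTrue _ (@Int.NonNeg.mk @x5)) @(fun x5 => @Decidable.isFalse _ (@Int.decNonneg._proof_1 @x5)) (@Int.add (@Cfsg.Agent.KO5d25de7.k44 _ @x3 @x4) (@Int.ofNat (nat_lit 0))))) @Bool.true (@Bool.rec.{1} @(fun x5 => @Bool) @Bool.true @Bool.false (@Decidable.rec.{1} _ @(fun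 x5 => @Bool) @(fun x5 => @Bool.false) @(fun x5 => @Bool.true) (@Cfsg.Agent.KO5d25de7.k5 (@Cfsg.Agent.KO5d25de7.k44 _ @x2 @x4) (@Int.ofNat (nat_lit 0)))))))) ?_); rewrite [← Cfsg.Agent.KO5d25de7.e5, ← Cfsg.Agent.KO5d25de7.e44, ← Cfsg.Agent.KO5d25de7.e65.{0}]; (try delta Cfsg.Agent.KM.Tor.Lc.d2); (try generalize @Cfsg.Agent.KM.Tor.Lc.v = g0); rfl') | exact @Cfsg.Agent.KM.Tor.Lc.d2 | exact ()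
private theorem _root_.Cfsg.Agent.KO5d25de7.e81 : (by first | exact @Cfsg.Agent.KM.Tor.Lc.d2 = @_root_.Cfsg.Agent.KO5d25de7.k81 | exact True : Prop) := by first | (delta _root_.Cfsg.Agent.KO5d25de7.k81; exact @Subtype.property _ (fun g => @Cfsg.Agent.KM.Tor.Lc.d2 = @g) _) | rfl | trivial
private noncomputable def _root_.Cfsg.Agent.KO5d25de7.k82 : (by first | exact type_of% @Cfsg.Agent.KM.Tor.Lc.d4 | exact Unit : Sort _) := by first | (refine @Subtype.val _ (fun g => @Cfsg.Agent.KM.Tor.Lc.d4 = @g) (@Subtype.mk _ _ (@(fun x0 x1 x2 x3 x4 x5 => @Cfsg.Agent.KO5d25de7.k65.{0} _ @x1 @(fun x6 => @Bool.rec.{1} @(fun x7 => @Bool) (@Bool.rec.{1} @(fun x7 => @Bool) (@Bool.rec.{1} @(fun x7 => @Bool) (@Decidable.rec.{1} _ @(fun x7 => @Bool) @(fun x7 => @Bool.false) @(fun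 x7 => @Bool.true) (@Int.rec.{1} @(fun x7 => @Decidable (@Int.NonNeg @x7)) @(fun x7 => @Decidable.isTrue _ (@Int.NonNeg.mk @x7)) @(fun x7 => @Decidable.isFalse _ (@Int.decNonneg._proof_1 @x7)) (@Int.add (@Cfsg.Agent.KO5d25de7.k44 _ @x5 @x6) (@Int.ofNat (nat_lit 0))))) @Bool.true (@Bool.rec.{1} @(fun x7 => @Bool) @Bool.true @Bool.false (@Decidable.rec.{1} _ @(fun x7 => @Bool) @(fun x7 => @Bool.false) @(fun x7 => @Bool.true) (@Cfsg.Agent.KO5d25de7.k5 (@Cfsg.Agent.KO5d25de7.k44 _ @x4 @x6) (@Int.ofNat (nat_lit 0)))))) @Bool.true (@Bool.rec.{1} @(fun x7 => @Bool) @Bool.true @Bool.false (@Decidable.rec.{1} _ @(fun x7 => @Bool) @(fun x7 => @Bool.false) @(fun x7 => @Bool.true) (@Cfsg.Agent.KO5d25de7.k5 (@Cfsg.Agent.KO5d25de7.k44 _ @x3 @x6) (@Int.ofNat (nat_lit 0))))))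 @Bool.true (@Bool.rec.{1} @(fun x7 => @Bool) @Bool.true @Bool.false (@Decidable.rec.{1} _ @(fun x7 => @Bool) @(fun x7 => @Bool.false) @(fun x7 => @Bool.true) (@Cfsg.Agent.KO5d25de7.k5 (@Cfsg.Agent.KO5d25de7.k44 _ @x2 @x6) (@Int.ofNat (nat_lit 0)))))))) ?_); rewrite [← Cfsg.Agent.KO5d25de7.e5, ← Cfsg.Agent.KO5d25de7.e44, ← Cfsg.Agent.KO5d25de7.e65.{0}]; (try delta Cfsg.Agent.KM.Tor.Lc.d4); (try generalize @Cfsg.Agent.KM.Tor.Lc.v = g0); rfl') | exact @Cfsg.Agent.KM.Tor.Lc.d4 | exact ()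
private theorem _root_.Cfsg.Agent.KO5d25de7.e82 : (by first | exact @Cfsg.Agent.KM.Tor.Lc.d4 = @_root_.Cfsg.Agent.KO5d25de7.k82 | exact True : Prop) := by first | (delta _root_.Cfsg.Agent.KO5d25de7.k82; exact @Subtype.property _ (fun g => @Cfsg.Agent.KM.Tor.Lc.d4 = @g) _) | rfl | trivial
private noncomputable def _root_.Cfsg.Agent.KO5d25de7.k83 : (by first | exact type_of% @Cfsg.Agent.KM.Tor.Lc.d3 | exact Unit : Sort _) := by first | (refine @Subtype.val _ (fun g => @Cfsg.Agent.KM.Tor.Lc.d3 = @g) (@Subtype.mk _ _ (@(fun x0 x1 x2 x3 x4 => @Cfsg.Agent.KO5d25de7.k65.{0} _ @x1 @(fun x5 => @Bool.rec.{1} @(fun x6 => @Bool) (@Bool.rec.{1} @(fun x6 => @Bool) (@Decidable.rec.{1} _ @(fun x6 => @Bool) @(fun x6 => @Bool.false) @(fun x6 => @Bool.true) (@Int.rec.{1} @(fun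 x6 => @Decidable (@Int.NonNeg @x6)) @(fun x6 => @Decidable.isTrue _ (@Int.NonNeg.mk @x6)) @(fun x6 => @Decidable.isFalse _ (@Int.decNonneg._proof_1 @x6)) (@Int.add (@Cfsg.Agent.KO5d25de7.k44 _ @x4 @x5) (@Int.ofNat (nat_lit 0))))) @Bool.true (@Bool.rec.{1} @(fun x6 => @Bool) @Bool.true @Bool.false (@Decidable.rec.{1} _ @(fun x6 => @Bool) @(fun x6 => @Bool.false) @(fun x6 => @Bool.true) (@Cfsg.Agent.KO5d25de7.k5 (@Cfsg.Agent.KO5d25de7.k44 _ @x3 @x5) (@Int.ofNat (nat_lit 0)))))) @Bool.true (@Bool.rec.{1} @(fun x6 => @Bool) @Bool.true @Bool.false (@Decidable.rec.{1} _ @(fun x6 => @Bool) @(fun x6 => @Bool.false) @(fun x6 => @Bool.true) (@Cfsg.Agent.KO5d25de7.k5 (@Cfsg.Agent.KO5d25de7.k44 _ @x2 @x5) (@Int.ofNat (nat_lit 0)))))))) ?_); rewrite [← Cfsg.Agent.KO5d25de7.e5,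 ← Cfsg.Agent.KO5d25de7.e44, ← Cfsg.Agent.KO5d25de7.e65.{0}]; (try delta Cfsg.Agent.KM.Tor.Lc.d3); (try generalize @Cfsg.Agent.KM.Tor.Lc.v = g0); rfl') | exact @Cfsg.Agent.KM.Tor.Lc.d3 | exact ()
private theorem _root_.Cfsg.Agent.KO5d25de7.e83 : (by first | exact @Cfsg.Agent.KM.Tor.Lc.d3 = @_root_.Cfsg.Agent.KO5d25de7.k83 | exact True : Prop) := by first | (delta _root_.Cfsg.Agent.KO5d25de7.k83; exact @Subtype.property _ (fun g => @Cfsg.Agent.KM.Tor.Lc.d3 = @g) _) | rfl | trivial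
private noncomputable def _root_.Cfsg.Agent.KO5d25de7.k84 : (by first | exact type_of% @Cfsg.Agent.KM.Tor.Lc.t2f | exact Unit : Sort _) := by first | (refine @Subtype.val _ (fun g => @Cfsg.Agent.KM.Tor.Lc.t2f = @g) (@Subtype.mk _ _ (@(fun x0 x1 x2 x3 => @Cfsg.Agent.KO5d25de7.k65.{0} _ @x3 @(fun x4 => @Bool.rec.{1} @(fun x5 => @Bool) (@Cfsg.Agent.KO5d25de7.k80 _ @x2 @x3 @x4 @(fun x5 => @Bool.rec.{1} @(fun x6 => @Bool) @Bool.false (@Decidable.rec.{1} _ @(fun x6 => @Bool) @(fun x6 => @Bool.false) @(fun x6 => @Bool.true) (@Cfsg.Agent.KO5d25de7.k5 (@Cfsg.Agent.KO5d25de7.k72 @x4 @x5) (@Int.ofNat (nat_lit 0)))) (@Cfsg.Agent.KO5d25de7.k81 _ @x1 @x4 @x5)) @(fun x5 => @Cfsg.Agent.KO5d25de7.k65.{0} _ @x3 @(fun x6 => @Bool.rec.{1} @(fun x7 => @Bool) (@Cfsg.Agent.KO5d25de7.k80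 _ @x2 @x3 @x6 @(fun x7 => @Bool.rec.{1} @(fun x8 => @Bool) @Bool.false (@Decidable.rec.{1} _ @(fun x8 => @Bool) @(fun x8 => @Bool.false) @(fun x8 => @Bool.true) (@Cfsg.Agent.KO5d25de7.k5 (@Cfsg.Agent.KO5d25de7.k72 @x6 @x7) (@Int.ofNat (nat_lit 0)))) (@Cfsg.Agent.KO5d25de7.k82 _ @x1 @x4 @x5 @x6 @x7)) @(fun x7 => @Cfsg.Agent.KO5d25de7.k66.{0} _ (@Cfsg.Agent.KO5d25de7.k67.{0} _ (@Cfsg.Agent.KO5d25de7.k69 _ @x2) @x3) @(fun x8 => @Bool.rec.{1} @(fun x9 => @Bool) @Bool.false (@Bool.rec.{1} @(fun x9 => @Bool) @Bool.false (@Bool.rec.{1} @(fun x9 => @Bool) @Bool.false (@Decidable.rec.{1} _ @(fun x9 => @Bool) @(fun x9 => @Bool.false) @(fun x9 => @Bool.true) (@Cfsg.Agent.KO5d25de7.k5 (@Cfsg.Agent.KO5d25de7.k72 @x8 @x7) (@Int.ofNat (nat_lit 0)))) (@Decidable.rec.{1} _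 @(fun x9 => @Bool) @(fun x9 => @Bool.false) @(fun x9 => @Bool.true) (@Cfsg.Agent.KO5d25de7.k5 (@Cfsg.Agent.KO5d25de7.k72 @x8 @x6) (@Int.ofNat (nat_lit 0))))) (@Decidable.rec.{1} _ @(fun x9 => @Bool) @(fun x9 => @Bool.false) @(fun x9 => @Bool.true) (@Cfsg.Agent.KO5d25de7.k5 (@Cfsg.Agent.KO5d25de7.k72 @x8 @x5) (@Int.ofNat (nat_lit 0))))) (@Decidable.rec.{1} _ @(fun x9 => @Bool) @(fun x9 => @Bool.false) @(fun x9 => @Bool.true) (@Cfsg.Agent.KO5d25de7.k5 (@Cfsg.Agent.KO5d25de7.k72 @x8 @x4) (@Int.ofNat (nat_lit 0))))))) @Bool.true (@Bool.rec.{1} @(fun x7 => @Bool) @Bool.true @Bool.false (@Bool.rec.{1} @(fun x7 => @Bool) @Bool.false (@Cfsg.Agent.KO5d25de7.k83 _ @x1 @x4 @x5 @x6) (@Bool.rec.{1} @(fun x7 => @Bool) @Bool.true @Bool.false (@Cfsg.Agent.KO5d25de7.k69 _ @x2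 @x6))))))) @Bool.true (@Bool.rec.{1} @(fun x5 => @Bool) @Bool.true @Bool.false (@Bool.rec.{1} @(fun x5 => @Bool) @Bool.false (@Cfsg.Agent.KO5d25de7.k73 _ @x1 @x4) (@Bool.rec.{1} @(fun x5 => @Bool) @Bool.true @Bool.false (@Cfsg.Agent.KO5d25de7.k69 _ @x2 @x4))))))) ?_); rewrite [← Cfsg.Agent.KO5d25de7.e73, ← Cfsg.Agent.KO5d25de7.e83, ← Cfsg.Agent.KO5d25de7.e69, ← Cfsg.Agent.KO5d25de7.e67.{0}, ← Cfsg.Agent.KO5d25de7.e66.{0}, ← Cfsg.Agent.KO5d25de7.e82, ← Cfsg.Agent.KO5d25de7.e81, ← Cfsg.Agent.KO5d25de7.e72, ← Cfsg.Agent.KO5d25de7.e5, ← Cfsg.Agent.KO5d25de7.e80, ← Cfsg.Agent.KO5d25de7.e65.{0}]; (try delta Cfsg.Agent.KM.Tor.Lc.t2f Cfsg.Agent.KM.Tor.Lc.al); (try generalize @Cfsg.Agent.KM.Tor.Lc.alS = g0); (try generalize @Cfsg.Agent.KM.Tor.Lc.B = g1); (try generalize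 @Cfsg.Agent.KM.Tor.Lc.d2 = g2); (try generalize @Cfsg.Agent.KM.Tor.Lc.d4 = g3); (try generalize @Cfsg.Agent.KM.Tor.Lc.z = g4); (try generalize @Cfsg.Agent.KM.Tor.Lc.d3 = g5); (try generalize @Cfsg.Agent.KM.Tor.Lc.d1 = g6); rfl') | exact @Cfsg.Agent.KM.Tor.Lc.t2f | exact ()
private theorem _root_.Cfsg.Agent.KO5d25de7.e84 : (by first | exact @Cfsg.Agent.KM.Tor.Lc.t2f = @_root_.Cfsg.Agent.KO5d25de7.k84 | exact True : Prop) := by first | (delta _root_.Cfsg.Agent.KO5d25de7.k84; exact @Subtype.property _ (fun g => @Cfsg.Agent.KM.Tor.Lc.t2f = @g) _) | rfl | trivial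
private noncomputable def _root_.Cfsg.Agent.KO5d25de7.k85 : (by first | exact type_of% @Cfsg.Agent.KM.Tor.Lc.fx | exact Unit : Sort _) := by first | (refine @Subtype.val _ (fun g => @Cfsg.Agent.KM.Tor.Lc.fx = @g) (@Subtype.mk _ _ (@(fun x0 x1 x2 => @Cfsg.Agent.KO5d25de7.k65.{0} _ @x1 @(fun x3 => @Decidable.rec.{1} _ @(fun x4 => @Bool) @(fun x4 => @Bool.false) @(fun x4 => @Bool.true) (@Cfsg.Agent.KO5d25de7.k5 (@Cfsg.Agent.KO5d25de7.k44 _ @x2 @x3) (@Int.ofNat (nat_lit 0)))))) ?_); rewrite [← Cfsg.Agent.KO5d25de7.e44, ← Cfsg.Agent.KO5d25de7.e5, ← Cfsg.Agent.KO5d25de7.e65.{0}]; (try delta Cfsg.Agent.KM.Tor.Lc.fx); (try generalize @Cfsg.Agent.KM.Tor.Lc.v = g0); rfl') | exact @Cfsg.Agent.KM.Tor.Lc.fx | exact ()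
private theorem _root_.Cfsg.Agent.KO5d25de7.e85 : (by first | exact @Cfsg.Agent.KM.Tor.Lc.fx = @_root_.Cfsg.Agent.KO5d25de7.k85 | exact True : Prop) := by first | (delta _root_.Cfsg.Agent.KO5d25de7.k85; exact @Subtype.property _ (fun g => @Cfsg.Agent.KM.Tor.Lc.fx = @g) _) | rfl | trivial
private noncomputable def _root_.Cfsg.Agent.KO5d25de7.k86 : (by first | exact type_of% @Cfsg.Agent.KM.Tor.Lc.t3 | exact Unit : Sort _) := by first | (refine @Subtype.val _ (fun g => @Cfsg.Agent.KM.Tor.Lc.t3 = @g) (@Subtype.mk _ _ (@(fun x0 x1 x2 x3 => @Cfsg.Agent.KO5d25de7.k65.{0} _ @x3 @(fun x4 => @Bool.rec.{1} @(fun x5 => @Bool) (@Cfsg.Agent.KO5d25de7.k65.{0} _ @x3 @(fun x5 => @Bool.rec.{1} @(fun x6 => @Bool) (@Cfsg.Agent.KO5d25de7.k65.{0} _ @x3 @(fun x6 => @Bool.rec.{1}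 @(fun x7 => @Bool) (@Bool.rec.{1} @(fun x7 => @Bool) (@Cfsg.Agent.KO5d25de7.k65.{0} _ (@Cfsg.Agent.KO5d25de7.k67.{0} _ (@Cfsg.Agent.KO5d25de7.k69 _ @x2) @x3) @(fun x7 => @Bool.rec.{1} @(fun x8 => @Bool) (@Cfsg.Agent.KO5d25de7.k65.{0} _ (@Cfsg.Agent.KO5d25de7.k67.{0} _ (@Cfsg.Agent.KO5d25de7.k69 _ @x2) @x3) @(fun x8 => @Bool.rec.{1} @(fun x9 => @Bool) (@Bool.rec.{1} @(fun x9 => @Bool) @Bool.true @Bool.false (@Decidable.rec.{1} _ @(fun x9 => @Bool) @(fun x9 => @Bool.false) @(fun x9 => @Bool.true) (@Cfsg.Agent.KO5d25de7.k5 (@Cfsg.Agent.KO5d25de7.k72 @x8 @x6) (@Int.ofNat (nat_lit 0))))) @Bool.true (@Bool.rec.{1} @(fun x9 => @Bool) @Bool.true @Bool.false (@Bool.rec.{1} @(fun x9 => @Bool) @Bool.false (@Decidable.rec.{1} _ @(fun x9 => @Bool) @(fun x9 => @Bool.false)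 @(fun x9 => @Bool.true) (@Cfsg.Agent.KO5d25de7.k5 (@Cfsg.Agent.KO5d25de7.k72 @x8 @x5) (@Int.ofNat (nat_lit 0)))) (@Bool.rec.{1} @(fun x9 => @Bool) @Bool.false (@Decidable.rec.{1} _ @(fun x9 => @Bool) @(fun x9 => @Bool.false) @(fun x9 => @Bool.true) (@Cfsg.Agent.KO5d25de7.k5 (@Cfsg.Agent.KO5d25de7.k72 @x8 @x4) (@Int.ofNat (nat_lit 0)))) (@Decidable.rec.{1} _ @(fun x9 => @Bool) @(fun x9 => @Bool.false) @(fun x9 => @Bool.true) (@Cfsg.Agent.KO5d25de7.k5 (@Cfsg.Agent.KO5d25de7.k72 @x7 @x8) (@Nat.rec.{1} @(fun x9 => ℤ) (@Int.ofNat (nat_lit 0)) @(fun x9 x10 => @Int.negSucc @x9) (nat_lit 1))))))))) @Bool.true (@Bool.rec.{1} @(fun x8 => @Bool) @Bool.true @Bool.false (@Bool.rec.{1} @(fun x8 => @Bool) @Bool.false (@Decidable.rec.{1} _ @(fun x8 => @Bool) @(fun x8 => @Bool.false)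 @(fun x8 => @Bool.true) (@Cfsg.Agent.KO5d25de7.k5 (@Cfsg.Agent.KO5d25de7.k72 @x7 @x6) (@Int.ofNat (nat_lit 0)))) (@Bool.rec.{1} @(fun x8 => @Bool) @Bool.false (@Decidable.rec.{1} _ @(fun x8 => @Bool) @(fun x8 => @Bool.false) @(fun x8 => @Bool.true) (@Cfsg.Agent.KO5d25de7.k5 (@Cfsg.Agent.KO5d25de7.k72 @x7 @x5) (@Int.ofNat (nat_lit 0)))) (@Decidable.rec.{1} _ @(fun x8 => @Bool) @(fun x8 => @Bool.false) @(fun x8 => @Bool.true) (@Cfsg.Agent.KO5d25de7.k5 (@Cfsg.Agent.KO5d25de7.k72 @x7 @x4) (@Int.ofNat (nat_lit 0))))))))) @Bool.true (@Cfsg.Agent.KO5d25de7.k85 _ @x1 @x6)) @Bool.true (@Bool.rec.{1} @(fun x7 => @Bool) @Bool.true @Bool.false (@Bool.rec.{1} @(fun x7 => @Bool) @Bool.false (@Decidable.rec.{1} _ @(fun x7 => @Bool) @(fun x7 => @Bool.false) @(fun x7 => @Bool.true)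 (@Cfsg.Agent.KO5d25de7.k5 (@Cfsg.Agent.KO5d25de7.k72 @x5 @x6) (@Int.ofNat (nat_lit 0)))) (@Bool.rec.{1} @(fun x7 => @Bool) @Bool.false (@Decidable.rec.{1} _ @(fun x7 => @Bool) @(fun x7 => @Bool.false) @(fun x7 => @Bool.true) (@Cfsg.Agent.KO5d25de7.k5 (@Cfsg.Agent.KO5d25de7.k72 @x4 @x6) (@Int.ofNat (nat_lit 0)))) (@Bool.rec.{1} @(fun x7 => @Bool) @Bool.true @Bool.false (@Cfsg.Agent.KO5d25de7.k69 _ @x2 @x6))))))) @Bool.true (@Bool.rec.{1} @(fun x6 => @Bool) @Bool.true @Bool.false (@Bool.rec.{1} @(fun x6 => @Bool) @Bool.false (@Decidable.rec.{1} _ @(fun x6 => @Bool) @(fun x6 => @Bool.false) @(fun x6 => @Bool.true) (@Cfsg.Agent.KO5d25de7.k5 (@Cfsg.Agent.KO5d25de7.k72 @x4 @x5) (@Nat.rec.{1} @(fun x6 => ℤ) (@Int.ofNat (nat_lit 0)) @(fun x6 x7 => @Int.negSucc @x6)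 (nat_lit 1)))) (@Bool.rec.{1} @(fun x6 => @Bool) @Bool.false (@Cfsg.Agent.KO5d25de7.k81 _ @x1 @x4 @x5) (@Cfsg.Agent.KO5d25de7.k69 _ @x2 @x5)))))) @Bool.true (@Bool.rec.{1} @(fun x5 => @Bool) @Bool.true @Bool.false (@Bool.rec.{1} @(fun x5 => @Bool) @Bool.false (@Cfsg.Agent.KO5d25de7.k73 _ @x1 @x4) (@Cfsg.Agent.KO5d25de7.k69 _ @x2 @x4)))))) ?_); rewrite [← Cfsg.Agent.KO5d25de7.e73, ← Cfsg.Agent.KO5d25de7.e81, ← Cfsg.Agent.KO5d25de7.e85, ← Cfsg.Agent.KO5d25de7.e72, ← Cfsg.Agent.KO5d25de7.e5, ← Cfsg.Agent.KO5d25de7.e69, ← Cfsg.Agent.KO5d25de7.e67.{0}, ← Cfsg.Agent.KO5d25de7.e65.{0}]; (try delta Cfsg.Agent.KM.Tor.Lc.t3 Cfsg.Agent.KM.Tor.Lc.al); (try generalize @Cfsg.Agent.KM.Tor.Lc.z = g0); (try generalize @Cfsg.Agent.KM.Tor.Lc.B = g1); (try generalize @Cfsg.Agent.KM.Tor.Lc.fx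 = g2); (try generalize @Cfsg.Agent.KM.Tor.Lc.d2 = g3); (try generalize @Cfsg.Agent.KM.Tor.Lc.d1 = g4); rfl') | exact @Cfsg.Agent.KM.Tor.Lc.t3 | exact ()
private theorem _root_.Cfsg.Agent.KO5d25de7.e86 : (by first | exact @Cfsg.Agent.KM.Tor.Lc.t3 = @_root_.Cfsg.Agent.KO5d25de7.k86 | exact True : Prop) := by first | (delta _root_.Cfsg.Agent.KO5d25de7.k86; exact @Subtype.property _ (fun g => @Cfsg.Agent.KM.Tor.Lc.t3 = @g) _) | rfl | trivial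

theorem core7 : Core (n := 7) [0, 1, 2, 3, 4, 5] [6] R7 :=
  core_of _ _ _ (by decide) (by (first | (rewrite [Cfsg.Agent.KO5d25de7.e84]; decide +kernel) | decide +kernel)) (by (first | (rewrite [Cfsg.Agent.KO5d25de7.e86]; decide +kernel) | decide +kernel)) (by (first | (rewrite [Cfsg.Agent.KO5d25de7.e74]; decide +kernel) | decide +kernel)) (by decide +kernel)

private noncomputable def _root_.Cfsg.Agent.KO5d25de7.k18.{ku0} : type_of% @List.hasDecEq.{ku0} := @(fun x0 x1 x2 x3 => @List.rec.{(ku0+1), ku0} @x0 @(fun x4 => (x5 : @List.{ku0} @x0) → @Decidable (@Eq.{(ku0+1)} _ @x4 @x5)) @(fun x4 => @List.rec.{1, ku0} @x0 @(fun x5 => @Decidable (@Eq.{(ku0+1)} _ [] @x5)) (@Decidable.isTrue _ (@List.hasDecEq._proof_1.{ku0} _)) @(fun x5 x6 x7 => @Decidable.isFalse _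 (@List.hasDecEq._proof_3.{ku0} _ @x5 @x6)) @x4) @(fun x4 x5 x6 x7 => @List.rec.{1, ku0} @x0 @(fun x8 => @Decidable (@Eq.{(ku0+1)} _ (@x4 :: @x5) @x8)) (@Decidable.isFalse _ (@List.hasDecEq._proof_2.{ku0} _ @x4 @x5)) @(fun x8 x9 x10 => @Decidable.rec.{1} _ @(fun x11 => @Decidable (@Eq.{(ku0+1)} _ (@x4 :: @x5) (@x8 :: @x9))) @(fun x11 => @Decidable.isFalse _ (@List.hasDecEq._proof_6.{ku0} _ @x4 @x5 @x8 @x9 @x11)) @(fun x11 => @Decidable.rec.{1} _ @(fun x12 => @Decidable (@Eq.{(ku0+1)} _ (@x4 :: @x5) (@x8 :: @x9))) @(fun x12 => @Decidable.isFalse _ (@List.hasDecEq._proof_5.{ku0} _ @x4 @x5 @x8 @x9 @x12)) @(fun x12 => @Decidable.isTrue _ (@List.hasDecEq._proof_4.{ku0} _ @x4 @x5 @x8 @x9 @x11 @x12)) (@x6 @x9)) (@x1 @x4 @x8)) @x7) @x2 @x3)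
private theorem _root_.Cfsg.Agent.KO5d25de7.e18.{ku0} : @List.hasDecEq.{ku0} = @_root_.Cfsg.Agent.KO5d25de7.k18.{ku0} := by delta _root_.Cfsg.Agent.KO5d25de7.k18; funext a0 a1 a2 a3; refine (congrFun (_root_.Cfsg.Agent.KO5d25de7.e7 (fun a2 a3 => @List.hasDecEq.{ku0} a0 a1 a2 a3) ?_ (fun c0 c1 => ?_) a2) a3 :) <;> [(funext b0; (cases b0 with | @nil  => (rfl') | @cons b0_0 b0_1 => (rfl'))); (funext b0; (cases b0 with | @nil  => (rfl') | @cons b0_0 b0_1 => (rfl')))]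
private noncomputable def _root_.Cfsg.Agent.KO5d25de7.k19.{ku0} : type_of% @instDecidableEqList.{ku0} := @(fun x0 x1 x2 x3 => @List.rec.{1, ku0} @x0 @(fun x4 => @Decidable (@Eq.{(ku0+1)} _ @x4 @x3)) (@List.rec.{1, ku0} @x0 @(fun x4 => @Decidable (@Eq.{(ku0+1)} _ [] @x4)) (@Decidable.isTrue _ (@List.hasDecEq._proof_1.{ku0} _)) @(fun x4 x5 x6 => @Decidable.isFalse _ (@List.hasDecEq._proof_3.{ku0} _ @x4 @x5)) @x3) @(fun x4 x5 x6 => @List.rec.{1, ku0} @x0 @(fun x7 => @Decidable (@Eq.{(ku0+1)} _ (@x4 :: @x5) @x7)) (@Decidable.isFalse _ (@List.hasDecEq._proof_2.{ku0} _ @x4 @x5)) @(fun x7 x8 x9 => @Decidable.rec.{1} _ @(fun x10 => @Decidable (@Eq.{(ku0+1)} _ (@x4 :: @x5) (@x7 :: @x8))) @(fun x10 => @Decidable.isFalse _ (@List.hasDecEq._proof_6.{ku0} _ @x4 @x5 @x7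 @x8 @x10)) @(fun x10 => @Decidable.rec.{1} _ @(fun x11 => @Decidable (@Eq.{(ku0+1)} _ (@x4 :: @x5) (@x7 :: @x8))) @(fun x11 => @Decidable.isFalse _ (@List.hasDecEq._proof_5.{ku0} _ @x4 @x5 @x7 @x8 @x11)) @(fun x11 => @Decidable.isTrue _ (@List.hasDecEq._proof_4.{ku0} _ @x4 @x5 @x7 @x8 @x10 @x11)) (@Cfsg.Agent.KO5d25de7.k18.{ku0} _ @x1 @x5 @x8)) (@x1 @x4 @x7)) @x3) @x2)
private theorem _root_.Cfsg.Agent.KO5d25de7.e19.{ku0} : @instDecidableEqList.{ku0} = @_root_.Cfsg.Agent.KO5d25de7.k19.{ku0} := by delta _root_.Cfsg.Agent.KO5d25de7.k19; rewrite [← Cfsg.Agent.KO5d25de7.e18.{ku0}]; rfl'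
private noncomputable def _root_.Cfsg.Agent.KO5d25de7.k37.{ku0} : type_of% @List.decidableBAll.{ku0} := @(fun x0 x1 x2 x3 => @List.rec.{1, ku0} @x0 @(fun x4 => @Decidable ((x5 : @x0) → (@Membership.mem.{ku0, ku0} _ _ _ @x4 @x5) → @x1 @x5)) (@Decidable.isTrue _ (@List.decidableBAll._proof_1.{ku0} _ @x1)) @(fun x4 x5 x6 => @Decidable.rec.{1} _ @(fun x7 => @Decidable ((x8 : @x0) → (@Membership.mem.{ku0, ku0} _ _ _ (@x4 :: @x5) @x8) → @x1 @x8)) @(fun x7 => @Decidable.isFalse _ (@List.decidableBAll._proof_4.{ku0} _ @x1 @x4 @x5 @x7)) @(fun x7 => @Decidable.rec.{1} _ @(fun x8 => @Decidable ((x9 : @x0) → (@Membership.mem.{ku0, ku0} _ _ _ (@x4 :: @x5) @x9) → @x1 @x9)) @(fun x8 => @Decidable.isFalse _ (@List.decidableBAll._proof_3.{ku0} _ @x1 @x4 @x5 @x8)) @(fun x8 =>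 @Decidable.isTrue _ (@List.decidableBAll._proof_2.{ku0} _ @x1 @x4 @x5 @x7 @x8)) @x6) (@x2 @x4)) @x3)
private theorem _root_.Cfsg.Agent.KO5d25de7.e37.{ku0} : @List.decidableBAll.{ku0} = @_root_.Cfsg.Agent.KO5d25de7.k37.{ku0} := by delta _root_.Cfsg.Agent.KO5d25de7.k37; funext a0 a1 a2 a3; refine (_root_.Cfsg.Agent.KO5d25de7.e7 (fun a3 => @List.decidableBAll.{ku0} a0 a1 a2 a3) ?_ (fun c0 c1 => ?_) a3 :) <;> (rfl')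
private noncomputable def _root_.Cfsg.Agent.KO5d25de7.k63.{ku0} : type_of% @List.pwFilter.{ku0} := @(fun x0 x1 x2 x3 => @Cfsg.Agent.KO5d25de7.k24.{ku0, ku0} _ _ @(fun x4 x5 => @Decidable.rec.{(ku0+1)} _ @(fun x6 => @List.{ku0} @x0) @(fun x6 => @x5) @(fun x6 => @x4 :: @x5) (@Cfsg.Agent.KO5d25de7.k37.{ku0} _ (@x1 @x4) (@x2 @x4) @x5)) [] @x3)
private theorem _root_.Cfsg.Agent.KO5d25de7.e63.{ku0} : @List.pwFilter.{ku0} = @_root_.Cfsg.Agent.KO5d25de7.k63.{ku0} := by delta _root_.Cfsg.Agent.KO5d25de7.k63; rewrite [← Cfsg.Agent.KO5d25de7.e37.{ku0}, ← Cfsg.Agent.KO5d25de7.e24.{ku0, ku0}]; rfl'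
private noncomputable def _root_.Cfsg.Agent.KO5d25de7.k87 : (by first | exact type_of% @Cfsg.Agent.KM.Tor.Lc.alD | exact Unit : Sort _) := by first | (refine @Subtype.val _ (fun g => @Cfsg.Agent.KM.Tor.Lc.alD = @g) (@Subtype.mk _ _ (@(fun x0 x1 x2 x3 => @Cfsg.Agent.KO5d25de7.k65.{0} _ (@Cfsg.Agent.KO5d25de7.k63.{0} _ @(fun x4 x5 => @Ne.{1} _ @x4 @x5) @(fun x4 x5 => @Decidable.rec.{1} _ @(fun x6 => @Decidable (¬ (@Eq.{1} _ @x4 @x5))) @(fun x6 => @Decidable.isTrue _ @x6) @(fun x6 => @Decidable.isFalse _ (@absurd.{0} _ _ @x6)) (@Cfsg.Agent.KO5d25de7.k19.{0} _ @Cfsg.Agent.KO5d25de7.k5 @x4 @x5)) (@Cfsg.Agent.KO5d25de7.k21.{0, 0} _ _ (@Cfsg.Agent.KO5d25de7.k75 _ @x1) @x2)) @x3)) ?_); rewrite [← Cfsg.Agent.KO5d25de7.e75, ← Cfsg.Agent.KO5d25de7.e21.{0, 0}, ← Cfsg.Agent.KO5d25de7.e5,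 ← Cfsg.Agent.KO5d25de7.e19.{0}, ← Cfsg.Agent.KO5d25de7.e63.{0}, ← Cfsg.Agent.KO5d25de7.e65.{0}]; (try delta Cfsg.Agent.KM.Tor.Lc.alD); (try generalize @Cfsg.Agent.KM.Tor.Lc.cl = g0); rfl') | exact @Cfsg.Agent.KM.Tor.Lc.alD | exact ()
private theorem _root_.Cfsg.Agent.KO5d25de7.e87 : (by first | exact @Cfsg.Agent.KM.Tor.Lc.alD = @_root_.Cfsg.Agent.KO5d25de7.k87 | exact True : Prop) := by first | (delta _root_.Cfsg.Agent.KO5d25de7.k87; exact @Subtype.property _ (fun g => @Cfsg.Agent.KM.Tor.Lc.alD = @g) _) | rfl | trivial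
private noncomputable def _root_.Cfsg.Agent.KO5d25de7.k88 : (by first | exact type_of% @Cfsg.Agent.KM.Tor.Lc.pk | exact Unit : Sort _) := by first | (refine @Subtype.val _ (fun g => @Cfsg.Agent.KM.Tor.Lc.pk = @g) (@Subtype.mk _ _ (@(fun x0 x1 x2 x3 x4 x5 => @Bool.rec.{1} @(fun x6 => @Bool) (@Cfsg.Agent.KO5d25de7.k78.{0} _ (@BEq.mk.{0} _ @(fun x6 x7 => @Decidable.rec.{1} _ @(fun x8 => @Bool) @(fun x8 => @Bool.false) @(fun x8 => @Bool.true) (@Cfsg.Agent.KO5d25de7.k5 @x6 @x7))) (@Cfsg.Agent.KO5d25de7.k21.{0, 0} _ _ @(fun x6 => @Int.rec.{1} @(fun x7 => ℤ) @(fun x7 => @Nat.rec.{1} @(fun x8 => ℤ) (@Int.ofNat (nat_lit 0)) @(fun x8 x9 => @Int.negSucc @x8) @x7) @(fun x7 => @Int.ofNat (@Nat.succ @x7)) @x6) @x2) (@Cfsg.Agent.KO5d25de7.k21.{0, 0} _ _ @(fun x6 => @Cfsg.Agent.KO5d25de7.k30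 (@Cfsg.Agent.KO5d25de7.k68 _ @x3 @x6) (@Int.rec.{1} @(fun x7 => ℤ) @(fun x7 => @Nat.rec.{1} @(fun x8 => ℤ) (@Int.ofNat (nat_lit 0)) @(fun x8 x9 => @Int.negSucc @x8) @x7) @(fun x7 => @Int.ofNat (@Nat.succ @x7)) (@Cfsg.Agent.KO5d25de7.k6 @x4 (@Cfsg.Agent.KO5d25de7.k68 _ @x5 @x6)))) @x1)) @Bool.true (@Cfsg.Agent.KO5d25de7.k78.{0} _ (@BEq.mk.{0} _ @(fun x6 x7 => @Decidable.rec.{1} _ @(fun x8 => @Bool) @(fun x8 => @Bool.false) @(fun x8 => @Bool.true) (@Cfsg.Agent.KO5d25de7.k5 @x6 @x7))) @x2 (@Cfsg.Agent.KO5d25de7.k21.{0, 0} _ _ @(fun x6 => @Cfsg.Agent.KO5d25de7.k30 (@Cfsg.Agent.KO5d25de7.k68 _ @x3 @x6) (@Int.rec.{1} @(fun x7 => ℤ) @(fun x7 => @Nat.rec.{1} @(fun x8 => ℤ) (@Int.ofNat (nat_lit 0)) @(fun x8 x9 => @Int.negSucc @x8) @x7) @(fun x7 => @Int.ofNat (@Nat.succ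 @x7)) (@Cfsg.Agent.KO5d25de7.k6 @x4 (@Cfsg.Agent.KO5d25de7.k68 _ @x5 @x6)))) @x1)))) ?_); rewrite [← Cfsg.Agent.KO5d25de7.e6, ← Cfsg.Agent.KO5d25de7.e68, ← Cfsg.Agent.KO5d25de7.e30, ← Cfsg.Agent.KO5d25de7.e21.{0, 0}, ← Cfsg.Agent.KO5d25de7.e5, ← Cfsg.Agent.KO5d25de7.e78.{0}]; (try delta Cfsg.Agent.KM.Tor.Lc.pk); (try generalize @Cfsg.Agent.KM.Tor.Lc.u = g0); rfl') | exact @Cfsg.Agent.KM.Tor.Lc.pk | exact ()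
private theorem _root_.Cfsg.Agent.KO5d25de7.e88 : (by first | exact @Cfsg.Agent.KM.Tor.Lc.pk = @_root_.Cfsg.Agent.KO5d25de7.k88 | exact True : Prop) := by first | (delta _root_.Cfsg.Agent.KO5d25de7.k88; exact @Subtype.property _ (fun g => @Cfsg.Agent.KM.Tor.Lc.pk = @g) _) | rfl | trivial
private noncomputable def _root_.Cfsg.Agent.KO5d25de7.k89 : (by first | exact type_of% @Cfsg.Agent.KM.Tor.Lc.pm | exact Unit : Sort _) := by first | (refine @Subtype.val _ (fun g => @Cfsg.Agent.KM.Tor.Lc.pm = @g) (@Subtype.mk _ _ (@(fun x0 x1 x2 x3 x4 x5 => @Bool.rec.{1} @(fun x6 => @Bool) (@Cfsg.Agent.KO5d25de7.k78.{0} _ (@BEq.mk.{0} _ @(fun x6 x7 => @Decidable.rec.{1} _ @(fun x8 => @Bool) @(fun x8 => @Bool.false) @(fun x8 => @Bool.true) (@Cfsg.Agent.KO5d25de7.k5 @x6 @x7)))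 (@Cfsg.Agent.KO5d25de7.k21.{0, 0} _ _ @(fun x6 => @Int.rec.{1} @(fun x7 => ℤ) @(fun x7 => @Nat.rec.{1} @(fun x8 => ℤ) (@Int.ofNat (nat_lit 0)) @(fun x8 x9 => @Int.negSucc @x8) @x7) @(fun x7 => @Int.ofNat (@Nat.succ @x7)) (@Cfsg.Agent.KO5d25de7.k68 _ @x2 @x6)) @x1) (@Cfsg.Agent.KO5d25de7.k21.{0, 0} _ _ @(fun x6 => @Cfsg.Agent.KO5d25de7.k30 (@Cfsg.Agent.KO5d25de7.k68 _ @x3 @x6) (@Int.rec.{1} @(fun x7 => ℤ) @(fun x7 => @Nat.rec.{1} @(fun x8 => ℤ) (@Int.ofNat (nat_lit 0)) @(fun x8 x9 => @Int.negSucc @x8) @x7) @(fun x7 => @Int.ofNat (@Nat.succ @x7)) (@Cfsg.Agent.KO5d25de7.k6 @x4 (@Cfsg.Agent.KO5d25de7.k68 _ @x5 @x6)))) @x1)) @Bool.true (@Cfsg.Agent.KO5d25de7.k78.{0} _ (@BEq.mk.{0} _ @(fun x6 x7 => @Decidable.rec.{1} _ @(fun x8 => @Bool) @(fun x8 => @Bool.false)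 @(fun x8 => @Bool.true) (@Cfsg.Agent.KO5d25de7.k5 @x6 @x7))) (@Cfsg.Agent.KO5d25de7.k75 _ @x1 @x2) (@Cfsg.Agent.KO5d25de7.k21.{0, 0} _ _ @(fun x6 => @Cfsg.Agent.KO5d25de7.k30 (@Cfsg.Agent.KO5d25de7.k68 _ @x3 @x6) (@Int.rec.{1} @(fun x7 => ℤ) @(fun x7 => @Nat.rec.{1} @(fun x8 => ℤ) (@Int.ofNat (nat_lit 0)) @(fun x8 x9 => @Int.negSucc @x8) @x7) @(fun x7 => @Int.ofNat (@Nat.succ @x7)) (@Cfsg.Agent.KO5d25de7.k6 @x4 (@Cfsg.Agent.KO5d25de7.k68 _ @x5 @x6)))) @x1)))) ?_); rewrite [← Cfsg.Agent.KO5d25de7.e75, ← Cfsg.Agent.KO5d25de7.e6, ← Cfsg.Agent.KO5d25de7.e30, ← Cfsg.Agent.KO5d25de7.e68, ← Cfsg.Agent.KO5d25de7.e21.{0, 0}, ← Cfsg.Agent.KO5d25de7.e5, ← Cfsg.Agent.KO5d25de7.e78.{0}]; (try delta Cfsg.Agent.KM.Tor.Lc.pm); (try generalize @Cfsg.Agent.KM.Tor.Lc.u = g0);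 (try generalize @Cfsg.Agent.KM.Tor.Lc.cl = g1); rfl') | exact @Cfsg.Agent.KM.Tor.Lc.pm | exact ()
private theorem _root_.Cfsg.Agent.KO5d25de7.e89 : (by first | exact @Cfsg.Agent.KM.Tor.Lc.pm = @_root_.Cfsg.Agent.KO5d25de7.k89 | exact True : Prop) := by first | (delta _root_.Cfsg.Agent.KO5d25de7.k89; exact @Subtype.property _ (fun g => @Cfsg.Agent.KM.Tor.Lc.pm = @g) _) | rfl | trivial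
private noncomputable def _root_.Cfsg.Agent.KO5d25de7.k90 : (by first | exact type_of% @Cfsg.Agent.KM.Tor.Lc.t6f | exact Unit : Sort _) := by first | (refine @Subtype.val _ (fun g => @Cfsg.Agent.KM.Tor.Lc.t6f = @g) (@Subtype.mk _ _ (@(fun x0 x1 x2 x3 => @Cfsg.Agent.KO5d25de7.k65.{0} _ @x3 @(fun x4 => @Bool.rec.{1} @(fun x5 => @Bool) (@Cfsg.Agent.KO5d25de7.k80 _ @x2 @x3 @x4 @(fun x5 => @Bool.rec.{1} @(fun x6 => @Bool) @Bool.false (@Decidable.rec.{1} _ @(fun x6 => @Bool) @(fun x6 => @Bool.false) @(fun x6 => @Bool.true) (@Cfsg.Agent.KO5d25de7.k5 (@Cfsg.Agent.KO5d25de7.k72 @x4 @x5) (@Int.ofNat (nat_lit 0)))) (@Cfsg.Agent.KO5d25de7.k81 _ @x1 @x4 @x5)) @(fun x5 => @Cfsg.Agent.KO5d25de7.k80 _ @x2 @x3 @x4 @(fun x6 => @Bool.rec.{1} @(fun x7 => @Bool) @Bool.false (@Decidable.rec.{1}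 _ @(fun x7 => @Bool) @(fun x7 => @Bool.false) @(fun x7 => @Bool.true) (@Cfsg.Agent.KO5d25de7.k5 (@Cfsg.Agent.KO5d25de7.k72 @x5 @x6) (@Int.ofNat (nat_lit 0)))) (@Decidable.rec.{1} _ @(fun x7 => @Bool) @(fun x7 => @Bool.false) @(fun x7 => @Bool.true) (@Cfsg.Agent.KO5d25de7.k5 (@Cfsg.Agent.KO5d25de7.k72 @x4 @x6) (@Int.ofNat (nat_lit 0))))) @(fun x6 => @Cfsg.Agent.KO5d25de7.k65.{0} _ @x3 @(fun x7 => @Bool.rec.{1} @(fun x8 => @Bool) (@Bool.rec.{1} @(fun x8 => @Bool) (@Bool.rec.{1} @(fun x8 => @Bool) (@Cfsg.Agent.KO5d25de7.k66.{0} _ (@x4 :: (@x5 :: (@x6 :: []))) @(fun x8 => @Cfsg.Agent.KO5d25de7.k87 _ @x2 (@Cfsg.Agent.KO5d25de7.k67.{0} _ @(fun x9 => @Bool.rec.{1} @(fun x10 => @Bool) @Bool.false (@Bool.rec.{1} @(fun x10 => @Bool) @Bool.true @Bool.false (@Cfsg.Agent.KO5d25de7.k85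 _ @x1 @x9)) (@Bool.rec.{1} @(fun x10 => @Bool) @Bool.true @Bool.false (@Cfsg.Agent.KO5d25de7.k69 _ @x2 @x9))) @x3) @(fun x9 => @Bool.rec.{1} @(fun x10 => @Bool) (@Bool.rec.{1} @(fun x10 => @Bool) (@Cfsg.Agent.KO5d25de7.k88 _ @x2 @x9 @x7 (@Cfsg.Agent.KO5d25de7.k72 @x7 @x8) @x4) @Bool.true (@Cfsg.Agent.KO5d25de7.k88 _ @x2 @x9 @x7 (@Int.ofNat (nat_lit 0)) @x4)) @Bool.true (@Cfsg.Agent.KO5d25de7.k88 _ @x2 @x9 @x4 (@Int.ofNat (nat_lit 0)) @x4)))) @Bool.true (@Cfsg.Agent.KO5d25de7.k85 _ @x1 @x7)) @Bool.true (@Cfsg.Agent.KO5d25de7.k89 _ @x2 @x7 @x4 (@Int.ofNat (nat_lit 0)) @x4)) @Bool.true (@Bool.rec.{1} @(fun x8 => @Bool) @Bool.true @Bool.false (@Bool.rec.{1} @(fun x8 => @Bool) @Bool.false (@Cfsg.Agent.KO5d25de7.k83 _ @x1 @x4 @x5 @x7) (@Bool.rec.{1} @(fun x8 => @Bool)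 @Bool.true @Bool.false (@Cfsg.Agent.KO5d25de7.k69 _ @x2 @x7)))))))) @Bool.true (@Bool.rec.{1} @(fun x5 => @Bool) @Bool.true @Bool.false (@Bool.rec.{1} @(fun x5 => @Bool) @Bool.false (@Cfsg.Agent.KO5d25de7.k73 _ @x1 @x4) (@Bool.rec.{1} @(fun x5 => @Bool) @Bool.true @Bool.false (@Cfsg.Agent.KO5d25de7.k69 _ @x2 @x4))))))) ?_); rewrite [← Cfsg.Agent.KO5d25de7.e73, ← Cfsg.Agent.KO5d25de7.e83, ← Cfsg.Agent.KO5d25de7.e89, ← Cfsg.Agent.KO5d25de7.e88, ← Cfsg.Agent.KO5d25de7.e69, ← Cfsg.Agent.KO5d25de7.e85, ← Cfsg.Agent.KO5d25de7.e67.{0}, ← Cfsg.Agent.KO5d25de7.e87, ← Cfsg.Agent.KO5d25de7.e66.{0}, ← Cfsg.Agent.KO5d25de7.e81, ← Cfsg.Agent.KO5d25de7.e72, ← Cfsg.Agent.KO5d25de7.e5, ← Cfsg.Agent.KO5d25de7.e80, ← Cfsg.Agent.KO5d25de7.e65.{0}]; (try delta Cfsg.Agent.KM.Tor.Lc.t6f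 Cfsg.Agent.KM.Tor.Lc.al); (try generalize @Cfsg.Agent.KM.Tor.Lc.alS = g0); (try generalize @Cfsg.Agent.KM.Tor.Lc.B = g1); (try generalize @Cfsg.Agent.KM.Tor.Lc.d2 = g2); (try generalize @Cfsg.Agent.KM.Tor.Lc.alD = g3); (try generalize @Cfsg.Agent.KM.Tor.Lc.fx = g4); (try generalize @Cfsg.Agent.KM.Tor.Lc.z = g5); (try generalize @Cfsg.Agent.KM.Tor.Lc.pk = g6); (try generalize @Cfsg.Agent.KM.Tor.Lc.pm = g7); (try generalize @Cfsg.Agent.KM.Tor.Lc.d3 = g8); (try generalize @Cfsg.Agent.KM.Tor.Lc.d1 = g9); rfl') | exact @Cfsg.Agent.KM.Tor.Lc.t6f | exact ()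
private theorem _root_.Cfsg.Agent.KO5d25de7.e90 : (by first | exact @Cfsg.Agent.KM.Tor.Lc.t6f = @_root_.Cfsg.Agent.KO5d25de7.k90 | exact True : Prop) := by first | (delta _root_.Cfsg.Agent.KO5d25de7.k90; exact @Subtype.property _ (fun g => @Cfsg.Agent.KM.Tor.Lc.t6f = @g) _) | rfl | trivial

theorem core8 : Core (n := 8) [0, 1, 2, 3, 4, 5] [6, 7] R8 :=
  core_of _ _ _ (by decide) (by (first | (rewrite [Cfsg.Agent.KO5d25de7.e84]; decide +kernel) | decide +kernel)) (by (first | (rewrite [Cfsg.Agent.KO5d25de7.e86]; decide +kernel) | decide +kernel)) (by (first | (rewrite [Cfsg.Agent.KO5d25de7.e74]; decide +kernel) | decide +kernel)) (by (first | (rewrite [Cfsg.Agent.KO5d25de7.e90]; decide +kernel) | decide +kernel))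

theorem core8' : Core (n := 8) [0, 1, 2, 3, 4, 5, 6, 7] [] R8 :=
  core_of _ _ _ (by decide) (by decide +kernel) (by (first | (rewrite [Cfsg.Agent.KO5d25de7.e86]; decide +kernel) | decide +kernel)) (by (first | (rewrite [Cfsg.Agent.KO5d25de7.e74]; decide +kernel) | decide +kernel)) (by decide +kernel)

end Cfsg.Agent.KM.Tor.Lc

private theorem dce_ef4971fddcbc : _root_.True := by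
  try have : _root_.True := by simp only [_root_.Cfsg.Agent.KM.Tor.Lc.v.eq_1]
  try have : _root_.True := by simp only [_root_.Cfsg.Agent.KM.Tor.Lc.z.eq_1]
  try have : _root_.True := by simp only [_root_.Cfsg.Agent.KM.Tor.Lc.d3.eq_1]
  try have : _root_.True := by simp only [_root_.Cfsg.Agent.KM.Tor.Lc.D1.eq_1]
  try have : _root_.True := by simp only [_root_.Cfsg.Agent.KM.Tor.Lc.cl.eq_1]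
  try have : _root_.True := by simp only [_root_.Cfsg.Agent.KM.Tor.Lc.al.eq_1]
  try have : _root_.True := by simp only [_root_.Cfsg.Agent.KM.Tor.Lc.t3.eq_1]
  try have : _root_.True := by simp only [_root_.Cfsg.Agent.KM.Tor.Lc.Sm.eq_1]
  try have : _root_.True := by simp only [_root_.Cfsg.Agent.KM.Tor.Lc.D4.eq_1]
  try have : _root_.True := by simp only [_root_.Cfsg.Agent.KM.Tor.Lc.Pm.eq_1]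
  try have : _root_.True := by simp only [_root_.Cfsg.Agent.KM.Tor.Lc.pm.eq_1]
  try have : _root_.True := by simp only [_root_.Cfsg.Agent.KM.Tor.Lc.Fx.eq_1]
  try have : _root_.True := by simp only [_root_.Cfsg.Agent.KM.Tor.Lc.ent.eq_1]
  try have : _root_.True := by simp only [_root_.Cfsg.Agent.KM.Tor.Lc.d2.eq_1]
  try have : _root_.True := by simp only [_root_.Cfsg.Agent.KM.Tor.Lc.d1.eq_1]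
  try have : _root_.True := by simp only [_root_.Cfsg.Agent.KM.Tor.Lc.u.eq_1]
  try have : _root_.True := by simp only [_root_.Cfsg.Agent.KM.Tor.Lc.sm.eq_1]
  try have : _root_.True := by simp only [_root_.Cfsg.Agent.KM.Tor.Lc.Z.eq_1]
  try have : _root_.True := by simp only [_root_.Cfsg.Agent.KM.Tor.Lc.D2.eq_1]
  try have : _root_.True := by simp only [_root_.Cfsg.Agent.KM.Tor.Lc.fx.eq_1]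
  try have : _root_.True := by simp only [_root_.Cfsg.Agent.KM.Tor.Lc.D3.eq_1]
  try have : _root_.True := by simp only [_root_.Cfsg.Agent.KM.Tor.Lc.t4.eq_1]
  try have : _root_.True := by simp only [_root_.Cfsg.Agent.KM.Tor.Lc.d4.eq_1]
  exact _root_.True.intro
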